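import Cfsg.Agent.H69.SpecEight.Sum
import Cfsg.Agent.H69.M11.Tools
import Cfsg.Agent.H57.ZeroCount

/-!
Tori of orders `q ^ k - 1` and `q ^ k + 1` in orthogonal groups in characteristic two.
-/

set_option autoImplicit false

namespace Cfsg.Agent.H69.SpecEight

open QuadraticMap Module Cfsg.Agent.Orthogonal

variable {F : Type*} [Field F] [Finite F] [CharP F 2]

omit [Finite F] in
theorem two_eq_zero' : (2 : F) = 0 := CharTwo.two_eq_zero

omit [Finite F] in
theorem coeff_ne_zero [Finite F] {a b : F}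
    (hab : ∀ z₁ z₂ : F, z₁ ^ 2 + a * z₁ * z₂ + b * z₂ ^ 2 = 0 → z₁ = 0 ∧ z₂ = 0) : a ≠ 0 := by
  intro ha
  have h := aniso_binary hab
  rw [ha, show (4 : F) = 2 * 2 by norm_num, two_eq_zero'] at h
  simp at h

/-- The additive map `x ↦ x² + x`. -/
def artin (F : Type*) [Field F] [CharP F 2] : F →+ F :=
  AddMonoidHom.mk' (fun x => x ^ 2 + x) fun x y => by rw [CharTwo.add_sq]; ring

theorem index_artin : (artin F).range.index = 2 := by
  have hk : Nat.card (artin F).ker = 2 := by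
    have : ((artin F).ker : Set F) = {0, 1} := by
      ext x
      show x ^ 2 + x = 0 ↔ x ∈ ({0, 1} : Set F)
      constructor
      · intro h
        have h' : x * (x + 1) = 0 := by linear_combination h
        rcases mul_eq_zero.1 h' with h | h
        · exact Or.inl h
        · exact Or.inr (Set.mem_singleton_iff.2 (CharTwo.add_eq_zero.1 h))
      · rintro (rfl | rfl)
        · ring
        · show (1 : F) ^ 2 + 1 = 0
          rw [one_pow, CharTwo.add_self_eq_zero]
    rw [show Nat.card (artin F).ker = Nat.card ({0, 1} : Set F) from Nat.card_congr (Equiv.setCongr this),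
      Nat.card_coe_set_eq, Set.ncard_pair zero_ne_one]
  have h1 := (artin F).ker.card_mul_index
  have h2 := (artin F).range.card_mul_index
  rw [AddSubgroup.index_ker] at h1
  rw [← h1, mul_comm (Nat.card (artin F).ker)] at h2
  exact (Nat.eq_of_mul_eq_mul_left Nat.card_pos h2).trans hk

theorem exists_no_root : ∃ ζ : F, ∀ t : F, t ^ 2 + t + ζ ≠ 0 := by
  by_contra h
  push Not at h
  have htop : (artin F).range = ⊤ := eq_top_iff.2 fun ζ _ => by
    obtain ⟨t, ht⟩ := h ζ
    exact ⟨t, CharTwo.add_eq_zero.1 ht⟩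
  have := index_artin (F := F)
  rw [htop, AddSubgroup.index_top] at this
  norm_num at this

theorem exists_artin {ζ ζ' : F} (h : ∀ t : F, t ^ 2 + t + ζ ≠ 0) (h' : ∀ t : F, t ^ 2 + t + ζ' ≠ 0) :
    ∃ t : F, t ^ 2 + t = ζ + ζ' := by
  have hn : ∀ z : F, (∀ t : F, t ^ 2 + t + z ≠ 0) → z ∉ (artin F).range := fun z hz => by
    rintro ⟨t, ht⟩
    exact hz t (CharTwo.add_eq_zero.2 ht)
  exact (AddSubgroup.add_mem_iff_of_index_two (index_artin (F := F))).2
    (iff_of_false (hn ζ h) (hn ζ' h'))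

theorem real_minus_coeff {m n : ℕ} {a b ζ : F}
    (hab : ∀ z₁ z₂ : F, z₁ ^ 2 + a * z₁ * z₂ + b * z₂ ^ 2 = 0 → z₁ = 0 ∧ z₂ = 0)
    (hζ : ∀ t : F, t ^ 2 + t + ζ ≠ 0) (h : Real (formMinus F m 1 ζ) n) :
    Real (formMinus F m a b) n := by
  have ha := coeff_ne_zero hab
  have hb : ∀ t : F, t ^ 2 + t + b / a ^ 2 ≠ 0 := by
    intro t ht
    refine one_ne_zero (hab (a * t) 1 ?_).2
    have : a ^ 2 * (t ^ 2 + t + b / a ^ 2) = 0 := by rw [ht, mul_zero]
    rw [mul_add, mul_div_cancel₀ _ (pow_ne_zero _ ha)] at this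
    linear_combination this
  obtain ⟨t, ht⟩ := exists_artin hb hζ
  have key : a ^ 2 * (t ^ 2 + t + ζ) = b := by
    rw [ht, add_assoc, CharTwo.add_self_eq_zero, add_zero, mul_div_cancel₀ _ (pow_ne_zero _ ha)]
  let L : ((Fin m ⊕ Fin m) ⊕ Fin 2 → F) →ₗ[F] ((Fin m ⊕ Fin m) ⊕ Fin 2 → F) :=
    { toFun := fun v => Sum.elim (fun i => v (.inl i)) ![v (.inr 0) + t * a * v (.inr 1), a * v (.inr 1)]
      map_add' := fun v w => by
        funext s; rcases s with i | j
        · rfl
        · fin_cases j <;> simp <;> ring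
      map_smul' := fun c v => by
        funext s; rcases s with i | j
        · rfl
        · fin_cases j <;> simp <;> ring }
  refine Real.of_iso L (fun v => ?_) (formMinus_nondeg m hab) rfl h
  show Cfsg.quadFormMinus m F 1 ζ (L v) = Cfsg.quadFormMinus m F a b v
  simp only [Cfsg.quadFormMinus, L, LinearMap.coe_mk, AddHom.coe_mk, Sum.elim_inl, Sum.elim_inr,
    Matrix.cons_val_zero, Matrix.cons_val_one]
  linear_combination (v (.inr 1) ^ 2) * key + (t * a * v (.inr 0) * v (.inr 1)) * (two_eq_zero' (F := F))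

/-- Torus of order `q ^ k - 1` in the plus group of rank `k`. -/
theorem real_plus_torus (k : ℕ) (hk : 1 ≤ k) : Real (formPlus F k) (Nat.card F ^ k - 1) := by
  haveI : Fact (Nat.Prime 2) := ⟨Nat.prime_two⟩
  haveI : NeZero k := ⟨by omega⟩
  let K := FiniteField.Extension F 2 k
  haveI : Fintype K := Fintype.ofFinite K
  have hfr : finrank F K = k := FiniteField.finrank_extension F 2 k
  let b : Module.Basis (Fin k) F K := Module.finBasisOfFinrankEq F K hfr
  have hnd := traceForm_nondegenerate F K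
  let d := (Algebra.traceForm F K).dualBasis hnd b
  let P : QuadraticMap F (K × K) K := QuadraticMap.linMulLin (LinearMap.fst F K K) (LinearMap.snd F K K)
  let T : QuadraticForm F (K × K) := (Algebra.trace F K).compQuadraticMap P
  have hT : ∀ v : K × K, T v = Algebra.trace F K (v.1 * v.2) := fun v => rfl
  obtain ⟨c, hc⟩ := IsCyclic.exists_ofOrder_eq_natCard (α := Kˣ)
  let f : Kˣ →* O T :=
    { toFun := fun c => ⟨LinearEquiv.prodCongr ((LinearEquiv.smulOfUnit (R := K) (M := K) c).restrictScalars F)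
          ((LinearEquiv.smulOfUnit (R := K) (M := K) c⁻¹).restrictScalars F), fun v => by
          show Algebra.trace F K ((c : K) * v.1 * (((c⁻¹ : Kˣ) : K) * v.2)) = Algebra.trace F K (v.1 * v.2)
          rw [mul_mul_mul_comm, Units.mul_inv, one_mul]⟩
      map_one' := O.ext_app fun v => Prod.ext (one_mul _) (by
        show ((1⁻¹ : Kˣ) : K) * v.2 = v.2
        rw [inv_one, Units.val_one, one_mul])
      map_mul' := fun a b => O.ext_app fun v => Prod.ext
        (by show ((a * b : Kˣ) : K) * v.1 = (a : K) * ((b : K) * v.1); rw [Units.val_mul, mul_assoc])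
        (by show (((a * b)⁻¹ : Kˣ) : K) * v.2 = ((a⁻¹ : Kˣ) : K) * (((b⁻¹ : Kˣ) : K) * v.2)
            rw [mul_inv, Units.val_mul, mul_assoc]) }
  have hf : Function.Injective f := fun a b e => Units.ext (by
    have h : (a : K) * 1 = (b : K) * 1 :=
      congrArg Prod.fst (DFunLike.congr_fun (congrArg Subtype.val e) ((1, 0) : K × K) :)
    rwa [mul_one, mul_one] at h)
  have hR : Real T (Nat.card F ^ k - 1) := by
    refine ⟨f c, ?_⟩
    rw [orderOf_injective f hf, hc, Nat.card_units, Module.natCard_eq_pow_finrank (K := F) (V := K), hfr]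
  let L : (Fin k ⊕ Fin k → F) →ₗ[F] K × K :=
    (b.equivFun.symm.toLinearMap ∘ₗ LinearMap.funLeft F F Sum.inl).prod
      (d.equivFun.symm.toLinearMap ∘ₗ LinearMap.funLeft F F Sum.inr)
  refine Real.of_iso L (fun v => ?_) (formPlus_nondeg F k) ?_ hR
  · rw [hT]
    show Algebra.trace F K (b.equivFun.symm (fun i => v (.inl i)) * d.equivFun.symm (fun i => v (.inr i))) =
      ∑ i, v (.inl i) * v (.inr i)
    rw [Basis.equivFun_symm_apply, Basis.equivFun_symm_apply, Finset.sum_mul_sum, map_sum]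
    refine Finset.sum_congr rfl fun i _ => ?_
    rw [map_sum, Finset.sum_eq_single i]
    · rw [smul_mul_smul_comm, map_smul, show Algebra.trace F K (b i * d i) = 1 by
        rw [← Algebra.traceForm_apply,
          LinearMap.BilinForm.apply_dualBasis_right hnd (Algebra.traceForm_isSymm F) b, if_pos rfl]]
      simp
    · intro j _ hj
      rw [smul_mul_smul_comm, map_smul, show Algebra.trace F K (b i * d j) = 0 by
        rw [← Algebra.traceForm_apply,
          LinearMap.BilinForm.apply_dualBasis_right hnd (Algebra.traceForm_isSymm F) b, if_neg hj.symm]]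
      simp
    · simp
  · rw [finrank_formPlus, Module.finrank_prod, hfr]; ring

omit [Finite F] [CharP F 2] in
/-- Number of zeros of the plus form. -/
theorem card_zero_plus_eq [Fintype F] (j : ℕ) :
    (Nat.card {v : Fin (j + 1) ⊕ Fin (j + 1) → F // Cfsg.quadFormPlus (j + 1) F v = 0} : ℤ) =
      (Fintype.card F : ℤ) ^ (2 * j + 1) + (Fintype.card F : ℤ) ^ (j + 1) - (Fintype.card F : ℤ) ^ j := by
  induction j with
  | zero =>
    haveI : Unique {v : Fin 0 ⊕ Fin 0 → F // Cfsg.quadFormPlus 0 F v = 0} :=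
      { default := ⟨0, by simp [Cfsg.quadFormPlus]⟩
        uniq := fun v => Subtype.ext (Subsingleton.elim _ _) }
    rw [H57.card_zero_plus 0, Nat.card_unique]
    push_cast; ring
  | succ j ih => rw [H57.card_zero_plus (j + 1), ih]; ring

omit [Finite F] [CharP F 2] in
theorem rot_fix {a b s t : F} (hab : ∀ z₁ z₂ : F, z₁ ^ 2 + a * z₁ * z₂ + b * z₂ ^ 2 = 0 → z₁ = 0 ∧ z₂ = 0)
    {v : (Fin 0 ⊕ Fin 0) ⊕ Fin 2 → F} (hv : v ≠ 0) (h : rotLin a b s t v = v) : s = 1 ∧ t = 0 := by
  have e1 : s * ellX v - b * t * ellY v = ellX v := by rw [← ellX_rot, h]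
  have e2 : t * ellX v + (s + a * t) * ellY v = ellY v := by rw [← ellY_rot, h]
  have hd : ((s - 1) ^ 2 + a * (s - 1) * t + b * t ^ 2) = 0 := by
    by_contra hd
    refine hv (ell_ext ?_ ?_)
    · refine (mul_eq_zero.1 (?_ : ((s - 1) ^ 2 + a * (s - 1) * t + b * t ^ 2) * ellX v = 0)).resolve_left hd
      linear_combination (s - 1 + a * t) * e1 + (b * t) * e2
    · refine (mul_eq_zero.1 (?_ : ((s - 1) ^ 2 + a * (s - 1) * t + b * t ^ 2) * ellY v = 0)).resolve_left hd
      linear_combination (s - 1) * e2 - t * e1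
  obtain ⟨h1, h2⟩ := hab _ _ hd
  exact ⟨sub_eq_zero.1 h1, h2⟩

/-- Rotation subgroup: element of order `q + 1`. -/
theorem real_minus_plane {a b : F}
    (hab : ∀ z₁ z₂ : F, z₁ ^ 2 + a * z₁ * z₂ + b * z₂ ^ 2 = 0 → z₁ = 0 ∧ z₂ = 0) :
    Real (formMinus F 0 a b) (Nat.card F + 1) := by
  haveI := isCyclic_rotGroup hab
  obtain ⟨g, hg⟩ := IsCyclic.exists_ofOrder_eq_natCard (α := rotGroup a b)
  exact ⟨g, by rw [Subgroup.orderOf_coe, hg, card_rotGroup hab]⟩

/-- Torus of order `q ^ (j + 1) + 1` in the minus group of rank `j + 1`, `j ≥ 1`. -/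
theorem real_minus_torus {a b : F}
    (hab : ∀ z₁ z₂ : F, z₁ ^ 2 + a * z₁ * z₂ + b * z₂ ^ 2 = 0 → z₁ = 0 ∧ z₂ = 0) (j : ℕ) (hj : 1 ≤ j) :
    Real (formMinus F j a b) (Nat.card F ^ (j + 1) + 1) := by
  classical
  haveI : Fintype F := Fintype.ofFinite F
  haveI : Fact (Nat.Prime 2) := ⟨Nat.prime_two⟩
  let K := FiniteField.Extension F 2 (j + 1)
  haveI : CharP K 2 := charP_of_injective_algebraMap (algebraMap F K).injective 2
  have hfr : finrank F K = j + 1 := FiniteField.finrank_extension F 2 (j + 1)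
  have hK : Nat.card K = Nat.card F ^ (j + 1) := FiniteField.natCard_extension F 2 (j + 1)
  obtain ⟨ζ, hζ⟩ := exists_no_root (F := K)
  have hζ' : ∀ z₁ z₂ : K, z₁ ^ 2 + 1 * z₁ * z₂ + ζ * z₂ ^ 2 = 0 → z₁ = 0 ∧ z₂ = 0 :=
    fun z₁ z₂ h => aniso_of_no_root hζ z₁ z₂ h
  set QK := formMinus K 0 1 ζ with hQK
  let T : QuadraticForm F ((Fin 0 ⊕ Fin 0) ⊕ Fin 2 → K) := (Algebra.trace F K).compQuadraticMap' QK
  have hTa : ∀ v, T v = Algebra.trace F K (QK v) := fun v => rfl
  have hT : Nondeg T := by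
    intro x hx
    refine formMinus_nondeg 0 hζ' x fun y => ?_
    refine (traceForm_nondegenerate F K).1 _ fun c => ?_
    rw [Algebra.traceForm_apply, mul_comm, ← polar_smul_right', ← LinearMap.compQuadraticMap_polar]
    exact hx (c • y)
  have hn : finrank F ((Fin 0 ⊕ Fin 0) ⊕ Fin 2 → K) = 2 * (j + 1) := by
    rw [← Module.finrank_mul_finrank F K ((Fin 0 ⊕ Fin 0) ⊕ Fin 2 → K), finrank_formMinus K 0, hfr]
    ring
  haveI := finite_O_formMinus (1 : K) ζ
  haveI := isCyclic_rotGroup hζ'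
  obtain ⟨⟨g, hgm⟩, hg⟩ := IsCyclic.exists_ofOrder_eq_natCard (α := rotGroup (1 : K) ζ)
  let r : O QK →* O T :=
    { toFun := fun g => ⟨(g : _ ≃ₗ[K] _).restrictScalars F, fun v => by
        show Algebra.trace F K (QK ((g : _ ≃ₗ[K] _) v)) = Algebra.trace F K (QK v)
        rw [O.map_app]⟩
      map_one' := O.ext_app fun v => rfl
      map_mul' := fun _ _ => O.ext_app fun v => rfl }
  have hr : Function.Injective r := fun x y e =>
    O.ext_app fun v => DFunLike.congr_fun (congrArg Subtype.val e) v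
  have hord : orderOf (r g) = Nat.card F ^ (j + 1) + 1 := by
    rw [orderOf_injective r hr, ← hK, ← card_rotGroup hζ', ← hg]
    exact Subgroup.orderOf_coe (⟨g, hgm⟩ : rotGroup (1 : K) ζ)
  rcases hT.classify_even hn with ⟨E, hE⟩ | ⟨ξ, E, hξ, hE⟩
  swap
  · refine real_minus_coeff hab hξ ?_
    exact Real.of_iso E.toLinearMap hE (formMinus_nondeg j fun z₁ z₂ h => aniso_of_no_root hξ z₁ z₂ h)
      (LinearEquiv.finrank_eq E) ⟨r g, hord ▸ dvd_rfl⟩
  exfalso
  set V := (Fin 0 ⊕ Fin 0) ⊕ Fin 2 → K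
  let S : Set V := {v | T v = 0 ∧ v ≠ 0}
  have hdvd := M11.dvd_card_of_free (Subgroup.zpowers ((r g : O T) : V ≃ₗ[F] V)) S ?_ ?_
  rotate_left
  · intro h hh v hv
    obtain ⟨i, rfl⟩ := Subgroup.mem_zpowers_iff.1 hh
    refine ⟨?_, fun e => hv.2 ?_⟩
    · show T ((((r g : O T) : V ≃ₗ[F] V) ^ i) v) = 0
      rw [← Subgroup.coe_zpow, O.map_app]; exact hv.1
    · exact ((((r g : O T) : V ≃ₗ[F] V) ^ i).map_eq_zero_iff).1 e
  · intro h hh v hv hfix
    obtain ⟨i, rfl⟩ := Subgroup.mem_zpowers_iff.1 hh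
    obtain ⟨s, t, hst, he⟩ := zpow_mem hgm i
    rw [← Subgroup.coe_zpow, ← map_zpow] at hfix ⊢
    have hfix' : (((g ^ i : O QK)) : _ ≃ₗ[K] _) v = v := hfix
    rw [he, rotO_app] at hfix'
    obtain ⟨rfl, rfl⟩ := rot_fix hζ' hv.2 hfix'
    have h1 : g ^ i = 1 := by
      rw [he]
      exact O.ext_app fun w => ell_ext (by simp [rotO_app, ellX_rot]) (by simp [rotO_app, ellY_rot])
    rw [h1, map_one, Subgroup.coe_one]
  rw [Nat.card_zpowers, Subgroup.orderOf_coe, hord] at hdvd
  have hS : (Nat.card S : ℤ) = (Fintype.card F : ℤ) ^ (2 * j + 1) + (Fintype.card F : ℤ) ^ (j + 1)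
      - (Fintype.card F : ℤ) ^ j - 1 := by
    rw [← card_zero_plus_eq j]
    have e : Nat.card {v : Fin (j + 1) ⊕ Fin (j + 1) → F // Cfsg.quadFormPlus (j + 1) F v = 0} =
        Nat.card {v : V // T v = 0} :=
      Nat.card_congr (E.toEquiv.subtypeEquiv fun v => by
        show Cfsg.quadFormPlus (j + 1) F v = 0 ↔ T (E v) = 0
        rw [hE]; rfl)
    have h1 : Nat.card {v : V // T v = 0} = Nat.card S + 1 := by
      rw [Nat.card_coe_set_eq, show Nat.card {v : V // T v = 0} = {v : V | T v = 0}.ncard from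
        Nat.card_coe_set_eq _, show S = {v : V | T v = 0} \ {0} by
          ext v; simp [S, and_comm]]
      exact (Set.ncard_sdiff_singleton_add_one (show (0 : V) ∈ {v : V | T v = 0} from
        QuadraticMap.map_zero T) (Set.toFinite _)).symm
    rw [e, h1]; push_cast; ring
  obtain ⟨m, hm⟩ := hdvd
  rw [hm, Nat.card_eq_fintype_card] at hS
  push_cast at hS
  set Q := (Fintype.card F : ℤ)
  have hQ : 2 ≤ Q := by
    have : 1 < Fintype.card F := Fintype.one_lt_card
    simp only [Q]; exact_mod_cast this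
  obtain ⟨Q', hQ'⟩ : (2 : ℤ) ∣ Q := by
    have := (CharP.cast_eq_zero_iff F 2 (Fintype.card F)).1 (by simp)
    simp only [Q]; exact_mod_cast this
  have hp : 1 ≤ Q ^ j := one_le_pow₀ (by linarith)
  have hkey : (Q ^ (j + 1) + 1) * (Q ^ j + 1 - m) = 2 * Q ^ j + 2 := by
    linear_combination -hS
  rw [pow_succ] at hkey
  have h0 : 0 < Q ^ j + 1 - (m : ℤ) := by
    by_contra h
    push Not at h
    nlinarith [mul_nonpos_of_nonneg_of_nonpos (show 0 ≤ Q ^ j * Q + 1 by nlinarith) h]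
  have hlt : Q ^ j + 1 - (m : ℤ) < 2 := by
    by_contra h
    push Not at h
    nlinarith [mul_le_mul_of_nonneg_left h (show 0 ≤ Q ^ j * Q + 1 by nlinarith),
      mul_le_mul_of_nonneg_left hQ (show 0 ≤ Q ^ j by linarith)]
  rw [show Q ^ j + 1 - (m : ℤ) = 1 by omega, mul_one, hQ'] at hkey
  obtain ⟨w, hw⟩ : ∃ w : ℤ, (2 * Q') ^ j * (2 * Q') = 2 * w := ⟨(2 * Q') ^ j * Q', by ring⟩
  rw [hw] at hkey
  omega

end Cfsg.Agent.H69.SpecEight
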