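import Cfsg.Agent.H69.SpecEight.Upper
import Cfsg.Agent.H69.SpecEight.Torus
import Cfsg.Agent.Orthogonal.Dickson

/-!
The group `V^k ⋊ Ω` for an eight-dimensional orthogonal space `V` in characteristic two: its
element orders obey the bounds of `Sp₈(q)`, because an element of trivial Dickson invariant with
a fixed vector has minimal polynomial of degree at most seven.
-/

set_option autoImplicit false

namespace Cfsg.Agent.H69.SpecEight

open QuadraticMap Module Polynomial Cfsg.Agent.Orthogonal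

variable {F : Type*} [Field F]

section Deg

variable {V : Type*} [AddCommGroup V] [Module F V] [FiniteDimensional F V]

/-- The degree of the minimal polynomial exceeds the rank of `f - 1` by at most one. -/
theorem natDegree_minpoly_le (f : Module.End F V) :
    (minpoly F f).natDegree ≤ finrank F (LinearMap.range (f - 1)) + 1 := by
  set W := LinearMap.range (f - 1) with hW
  have hinv : ∀ x ∈ W, f x ∈ W := by
    rintro - ⟨y, rfl⟩
    exact ⟨f y, by simp⟩
  set fW := f.restrict hinv
  have key : ∀ (p : F[X]) (w : W), ((aeval fW p w : W) : V) = aeval f p w := by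
    intro p
    induction p using Polynomial.induction_on' with
    | add a b ha hb => intro w; simp [ha, hb]
    | monomial k c =>
      intro w
      have hk : ∀ (k : ℕ) (w : W), (((fW ^ k) w : W) : V) = (f ^ k) w := by
        intro k
        induction k with
        | zero => intro w; rfl
        | succ k ih => intro w; rw [pow_succ', pow_succ', Module.End.mul_apply, Module.End.mul_apply, ← ih]; rfl
      simp [aeval_monomial, hk]
  have hd : minpoly F f ∣ fW.charpoly * (X - C 1) := by
    refine minpoly.dvd F f (LinearMap.ext fun v => ?_)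
    rw [map_mul, map_sub, aeval_X, aeval_C, map_one, Module.End.mul_apply, LinearMap.zero_apply,
      ← key _ ⟨_, ⟨v, rfl⟩⟩, LinearMap.aeval_self_charpoly]
    rfl
  have hne : fW.charpoly * (X - C 1) ≠ 0 :=
    mul_ne_zero (LinearMap.charpoly_monic fW).ne_zero (X_sub_C_ne_zero 1)
  refine (natDegree_le_of_dvd hd hne).trans (le_of_eq ?_)
  rw [natDegree_mul (LinearMap.charpoly_monic fW).ne_zero (X_sub_C_ne_zero 1),
    LinearMap.charpoly_natDegree, natDegree_X_sub_C]

end Deg

variable [Finite F] {a b : F}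
  (hab : ∀ z₁ z₂ : F, z₁ ^ 2 + a * z₁ * z₂ + b * z₂ ^ 2 = 0 → z₁ = 0 ∧ z₂ = 0)

include hab in
theorem reflGroup_top : reflGroup (formMinus F 3 a b) = ⊤ :=
  reflGroup_eq_top (formMinus_nondeg 3 hab) (Or.inr (by rw [finrank_formMinus]; norm_num))

include hab in
/-- Sums of powers of an element of the Dickson kernel vanish at some bound. -/
theorem exists_bound_kernel [CharP F 2] (g : O (formMinus F 3 a b))
    (hg : dicksonSign g = 1) :
    ∃ n ∈ bounds (Nat.card F), g ^ n = 1 ∧
      ∀ v, ∑ i ∈ Finset.range n, ((g ^ i : O (formMinus F 3 a b)) :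
        ((Fin 3 ⊕ Fin 3) ⊕ Fin 2 → F) ≃ₗ[F] ((Fin 3 ⊕ Fin 3) ⊕ Fin 2 → F)) v = 0 := by
  classical
  haveI : Finite (O (formMinus F 3 a b)) :=
    Finite.of_injective (fun g x => (g : ((Fin 3 ⊕ Fin 3) ⊕ Fin 2 → F) ≃ₗ[F] ((Fin 3 ⊕ Fin 3) ⊕ Fin 2 → F)) x)
      fun g g' h => O.ext_app fun x => _root_.congr_fun h x
  set f : Module.End F ((Fin 3 ⊕ Fin 3) ⊕ Fin 2 → F) :=
    ((g : ((Fin 3 ⊕ Fin 3) ⊕ Fin 2 → F) ≃ₗ[F] ((Fin 3 ⊕ Fin 3) ⊕ Fin 2 → F)) :
      ((Fin 3 ⊕ Fin 3) ⊕ Fin 2 → F) →ₗ[F] ((Fin 3 ⊕ Fin 3) ⊕ Fin 2 → F)) with hf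
  set A := LinearMap.toMatrixAlgEquiv' f with hA
  have hμ : minpoly F A = minpoly F f := minpoly.algEquiv_eq _ f
  have hpow : ∀ i : ℕ, ∀ v, (f ^ i) v = ((g ^ i : O (formMinus F 3 a b)) :
      ((Fin 3 ⊕ Fin 3) ⊕ Fin 2 → F) ≃ₗ[F] ((Fin 3 ⊕ Fin 3) ⊕ Fin 2 → F)) v := by
    intro i
    induction i with
    | zero => intro v; rfl
    | succ i ih => intro v; rw [pow_succ', pow_succ', Module.End.mul_apply, ih]; rfl
  have hN : f ^ orderOf g = 1 := LinearMap.ext fun v => by rw [hpow, pow_orderOf_eq_one]; rfl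
  have hAN : A ^ orderOf g = 1 := by rw [hA, ← map_pow, hN, map_one]
  have hinv : H55.InvClosed A := by
    refine H55.InvClosed.of_form (B := LinearMap.BilinForm.toMatrix' (formMinus F 3 a b).polarBilin) ?_ ?_
    · rw [Matrix.isUnit_iff_isUnit_det, isUnit_iff_ne_zero, ← Matrix.toBilin'_toMatrix' ((formMinus F 3 a b).polarBilin)]
      rw [LinearMap.BilinForm.toMatrix'_toBilin', ← LinearMap.BilinForm.nondegenerate_toBilin'_iff_det_ne_zero,
        Matrix.toBilin'_toMatrix']
      exact (formMinus_nondeg 3 hab).polarBilin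
    · rw [hA]
      show (LinearMap.toMatrix' f).transpose * LinearMap.BilinForm.toMatrix' (formMinus F 3 a b).polarBilin * LinearMap.toMatrix' f = _
      rw [← LinearMap.BilinForm.toMatrix'_comp]
      congr 1
      exact LinearMap.ext fun x => LinearMap.ext fun y => O.polar_app g x y
  -- the padding exponent
  obtain ⟨δ, hδ, hfix⟩ : ∃ δ : ℕ, (minpoly F A).natDegree + δ ≤ 8 ∧
      ((δ = 1) ∨ (δ = 0 ∧ ∀ v, f v = v → v = 0)) := by
    by_cases h : ∀ v, f v = v → v = 0
    · exact ⟨0, by rw [add_zero]; exact (H55.minpoly_natDegree_le_card A).trans (by simp), Or.inr ⟨rfl, h⟩⟩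
    refine ⟨1, ?_, Or.inl rfl⟩
    push Not at h
    obtain ⟨v, hv, hv0⟩ := h
    have hfr : 1 ≤ finrank F (fixSpace g) :=
      Submodule.one_le_finrank_iff.2 fun hb => hv0 ((Submodule.eq_bot_iff _).1 hb v (mem_fixSpace.2 hv))
    have heven : Even (finrank F (fixSpace g)) := by
      rw [dicksonSign, finrank_formMinus, show 2 * (3 + 1) = 8 from rfl, pow_add] at hg
      rw [show ((-1 : ℤˣ) ^ 8) = 1 by decide, one_mul] at hg
      exact (neg_one_pow_eq_one_iff_even (by decide)).1 hg
    have hrk : finrank F (LinearMap.range (f - 1)) + finrank F (fixSpace g) = 8 := by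
      have h := LinearMap.finrank_range_add_finrank_ker (f - 1)
      rw [finrank_formMinus] at h
      exact h
    have := natDegree_minpoly_le f
    rw [hμ]
    obtain ⟨r, hr⟩ := heven
    omega
  obtain ⟨n, hn, hd⟩ := exists_bound_pad (two_eq_zero' (F := F)) hδ (orderOf_pos g) hAN hinv
  rw [hμ] at hd
  have hfn : f ^ n = 1 := by
    have h := aeval_eq_zero_of_dvd_aeval_eq_zero ((dvd_mul_right _ _).trans hd) (minpoly.aeval F f)
    rwa [map_sub, map_pow, aeval_X, map_one, sub_eq_zero] at h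
  refine ⟨n, hn, O.ext_app fun v => by rw [← hpow, hfn]; rfl, fun v => ?_⟩
  have hsum : (∑ i ∈ Finset.range n, f ^ i) v = 0 := by
    rcases hfix with rfl | ⟨-, hfree⟩
    · rw [pow_one, ← geom_sum_mul] at hd
      have hd' : minpoly F f ∣ ∑ i ∈ Finset.range n, (X : F[X]) ^ i :=
        (mul_dvd_mul_iff_right (by rw [← C_1]; exact X_sub_C_ne_zero (1 : F))).1 hd
      have h := aeval_eq_zero_of_dvd_aeval_eq_zero hd' (minpoly.aeval F f)
      simp only [map_sum, map_pow, aeval_X] at h
      rw [h, LinearMap.zero_apply]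
    · refine hfree _ ?_
      have h := mul_geom_sum f n
      rw [hfn, sub_self, sub_mul, one_mul] at h
      exact congrArg (fun e : Module.End F _ => e v) (sub_eq_zero.1 h)
  simpa [LinearMap.sum_apply, hpow] using hsum

end Cfsg.Agent.H69.SpecEight
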