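import Cfsg.Agent.H69.SpecEight.Mirror

/-!
In characteristic two, the order of a matrix of size at most eight that is annihilated together
with its inverse divides one of twelve numbers (the maximal element orders of `Sp₈(q)`).
-/

set_option autoImplicit false

namespace Cfsg.Agent.H69.SpecEight

open Polynomial UniqueFactorizationMonoid
open scoped Classical

/-- The maximal element orders of `Sp₈(q)`, `q` even. -/
def bounds (q : ℕ) : List ℕ :=
  [q ^ 4 + 1, q ^ 4 - 1, (q ^ 3 + 1) * (q - 1), (q ^ 3 - 1) * (q + 1), (q ^ 3 + 1) * 2,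
    (q ^ 3 - 1) * 2, (q ^ 2 + 1) * (q + 1) * 2, (q ^ 2 + 1) * (q - 1) * 2, (q ^ 2 + 1) * 4,
    (q ^ 2 - 1) * 4, (q + 1) * 8, (q - 1) * 8]

variable {F : Type*} [Field F] {ι : Type*} [Fintype ι] [DecidableEq ι]

/-- Half the degree of the reciprocal orbit. -/
noncomputable def halfDeg (f : F[X]) : ℕ := if rcp f = f then f.natDegree / 2 else f.natDegree

/-- The exponent attached to a factor. -/
noncomputable def expo (f : F[X]) : ℕ :=
  if rcp f = f then Nat.card F ^ halfDeg f + 1 else Nat.card F ^ halfDeg f - 1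

/-- The reciprocal orbit. -/
noncomputable def orbit (f : F[X]) : Finset F[X] := {f, rcp f}

theorem expo_cases {f : F[X]} {e : ℕ} (h : halfDeg f = e) :
    expo f = Nat.card F ^ e + 1 ∨ expo f = Nat.card F ^ e - 1 := by
  unfold expo; rw [h]; split_ifs <;> simp

theorem dvd_X_pow_sub_one {f : F[X]} {a b : ℕ} (h : f ∣ X ^ a - 1) (hab : a ∣ b) : f ∣ X ^ b - 1 := by
  obtain ⟨c, rfl⟩ := hab
  refine h.trans ?_
  rw [pow_mul]
  conv_rhs => rw [← one_pow c]
  exact sub_dvd_pow_sub_pow _ _ c

theorem orbit_eq {f g : F[X]} (hn : normalize f = f) (hg : g ∈ orbit f) :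
    halfDeg g = halfDeg f ∧ expo g = expo f := by
  simp only [orbit, Finset.mem_insert, Finset.mem_singleton] at hg
  rcases hg with rfl | rfl
  · exact ⟨rfl, rfl⟩
  by_cases h : rcp f = f
  · rw [h]; exact ⟨rfl, rfl⟩
  have h' : rcp (rcp f) ≠ rcp f := by rw [rcp_rcp hn]; exact fun e => h e.symm
  have hh : halfDeg (rcp f) = halfDeg f := by
    rw [halfDeg, halfDeg, if_neg h, if_neg h', natDegree_rcp]
  exact ⟨hh, by rw [expo, expo, if_neg h, if_neg h', hh]⟩

variable [Finite F]

theorem exists_bound_pad {A : Matrix ι ι F} (h2 : (2 : F) = 0) {δ : ℕ}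
    (hδ : (minpoly F A).natDegree + δ ≤ 8) {N : ℕ}
    (hN : 0 < N) (hA : A ^ N = 1) (hinv : H55.InvClosed A) :
    ∃ n ∈ bounds (Nat.card F), minpoly F A * (X - 1) ^ δ ∣ X ^ n - 1 := by
  have hμ0 : minpoly F A ≠ 0 := minpoly.ne_zero (Matrix.isIntegral A)
  have hp : CharP F 2 := CharTwo.of_one_ne_zero_of_two_eq_zero one_ne_zero h2
  haveI : Fact (Nat.Prime 2) := ⟨Nat.prime_two⟩
  set f1 : F[X] := X - 1 with hf1
  have hm1 : f1.Monic := by rw [hf1, ← C_1]; exact monic_X_sub_C 1
  have hi1 : Irreducible f1 := by rw [hf1, ← C_1]; exact irreducible_X_sub_C 1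
  have hnf : normalizedFactors (minpoly F A * f1 ^ δ) = fac A + Multiset.replicate δ f1 := by
    rw [normalizedFactors_mul hμ0 (pow_ne_zero _ hi1.ne_zero), normalizedFactors_pow,
      normalizedFactors_irreducible hi1, hm1.normalize_eq_self, Multiset.nsmul_singleton, fac]
  set s := fac A + Multiset.replicate δ f1 with hs
  have hmem : ∀ f ∈ s, f ≠ f1 → f ∈ fac A := fun f hf hne => by
    rcases Multiset.mem_add.1 hf with h | h
    · exact h
    · exact absurd (Multiset.eq_of_mem_replicate h) hne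
  have hsfac : ∀ f ∈ s, Irreducible f ∧ normalize f = f := fun f hf => by
    rcases Multiset.mem_add.1 hf with h | h
    · exact ⟨(mem_fac h).1, (mem_fac h).2.1⟩
    · rw [Multiset.eq_of_mem_replicate h]; exact ⟨hi1, hm1.normalize_eq_self⟩
  set q := Nat.card F with hq
  set c := fun f => s.count f with hc
  -- degrees
  have hdeg : ∀ T : Finset F[X], ∑ g ∈ T, c g * g.natDegree ≤ 8 := by
    intro T
    refine le_trans ?_ hδ
    have hsum : (minpoly F A).natDegree + δ = (s.map natDegree).sum := by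
      rw [hs, Multiset.map_add, Multiset.sum_add, Multiset.map_replicate, Multiset.sum_replicate, hf1,
        show (X - 1 : F[X]).natDegree = 1 by rw [← C_1, natDegree_X_sub_C], smul_eq_mul, mul_one,
        fac, ← natDegree_eq_of_degree_eq (degree_eq_degree_of_associated (prod_normalizedFactors hμ0)),
        natDegree_multiset_prod _ fun h => not_irreducible_zero (irreducible_of_normalized_factor _ h)]
    rw [hsum, Finset.sum_multiset_map_count]
    calc ∑ g ∈ T, c g * g.natDegree = ∑ g ∈ T ∩ s.toFinset, c g * g.natDegree := by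
          refine (Finset.sum_subset Finset.inter_subset_left fun g hg hg' => ?_).symm
          rw [hc]
          simp only
          rw [Multiset.count_eq_zero.2 (fun h => hg' (Finset.mem_inter.2 ⟨hg, Multiset.mem_toFinset.2 h⟩)),
            zero_mul]
      _ ≤ ∑ g ∈ s.toFinset, s.count g • g.natDegree :=
          Finset.sum_le_sum_of_subset Finset.inter_subset_right
  have hf1deg : f1.natDegree = 1 := by rw [hf1, ← C_1, natDegree_X_sub_C]
  have hcount : ∀ f ∈ s, f ≠ f1 → (fac A).count f = c f := fun f hf hne => by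
    rw [hc]
    simp only [hs, Multiset.count_add, Multiset.count_replicate]
    rw [if_neg (Ne.symm hne), add_zero]
  have hrne : ∀ f ∈ s, f ≠ f1 → rcp f ≠ f1 := fun f hf hne h =>
    hne (by rw [← rcp_rcp (hsfac f hf).2, h, hf1, rcp_X_sub_one])
  have hcr : ∀ f ∈ s, f ≠ f1 → c (rcp f) = c f := fun f hf hne => by
    rw [← hcount f hf hne]
    have hr : rcp f ∈ fac A := by
      rw [← map_rcp_fac hN hA hinv]; exact Multiset.mem_map_of_mem _ (hmem f hf hne)
    rw [← hcount (rcp f) (Multiset.mem_add.2 (Or.inl hr)) (hrne f hf hne),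
      count_rcp hN hA hinv (hmem f hf hne)]
  have data : ∀ f ∈ s, f ≠ f1 → 1 ≤ halfDeg f ∧ 1 ≤ c f ∧ f ∣ X ^ expo f - 1 ∧
      ∑ g ∈ orbit f, c g * g.natDegree = 2 * (halfDeg f * c f) := by
    intro f hf hne
    obtain ⟨e, he, ⟨hs', hd, hdiv⟩ | ⟨hs', hd, hdiv⟩⟩ := dvd_torus hN hA (hmem f hf hne) hne h2
    · have hh : halfDeg f = e := by rw [halfDeg, if_pos hs', hd]; omega
      refine ⟨by omega, Multiset.one_le_count_iff_mem.2 hf, by rw [expo, if_pos hs', hh]; exact hdiv, ?_⟩
      rw [orbit, hs', Finset.pair_eq_singleton, Finset.sum_singleton, hd, hh]; ring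
    · have hh : halfDeg f = e := by rw [halfDeg, if_neg hs', hd]
      refine ⟨by omega, Multiset.one_le_count_iff_mem.2 hf, by rw [expo, if_neg hs', hh]; exact hdiv, ?_⟩
      rw [orbit, Finset.sum_pair (Ne.symm hs'), natDegree_rcp, hd, hh]
      show c f * e + c (rcp f) * e = 2 * (e * c f)
      rw [hcr f hf hne]; ring
  have hcnt : ∀ f ∈ s, f ≠ f1 → ∀ g ∈ orbit f, c g = c f := by
    intro f hf hne g hg
    simp only [orbit, Finset.mem_insert, Finset.mem_singleton] at hg
    rcases hg with rfl | rfl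
    · rfl
    · exact hcr f hf hne
  have hf1O : ∀ f ∈ s, f ≠ f1 → f1 ∉ orbit f := by
    intro f hf hne hm
    simp only [orbit, Finset.mem_insert, Finset.mem_singleton] at hm
    rcases hm with h | h
    · exact hne h.symm
    · exact hne (by rw [← rcp_rcp (hsfac f hf).2, ← h, hf1, rcp_X_sub_one])
  have hdisj : ∀ f ∈ s, ∀ g ∈ s, g ∉ orbit f → Disjoint (orbit f) (orbit g) := by
    intro f hf g hg hgO
    rw [Finset.disjoint_left]
    intro a haf hag
    refine hgO ?_
    simp only [orbit, Finset.mem_insert, Finset.mem_singleton] at haf hag ⊢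
    rcases haf with rfl | rfl <;> rcases hag with h | h
    · exact Or.inl h.symm
    · exact Or.inr (by rw [h, rcp_rcp (hsfac g hg).2])
    · exact Or.inr h.symm
    · exact Or.inl (by rw [← rcp_rcp (hsfac g hg).2, ← h, rcp_rcp (hsfac f hf).2])
  have w1 : ∀ f ∈ s, f ≠ f1 → 2 * (halfDeg f * c f) + c f1 ≤ 8 := by
    intro f hf hne
    have := hdeg (insert f1 (orbit f))
    rw [Finset.sum_insert (hf1O f hf hne), (data f hf hne).2.2.2, hf1deg, mul_one] at this
    omega
  have w2 : ∀ f ∈ s, f ≠ f1 → ∀ g ∈ s, g ≠ f1 → g ∉ orbit f →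
      2 * (halfDeg f * c f) + 2 * (halfDeg g * c g) + c f1 ≤ 8 := by
    intro f hf hne g hg hge hgO
    have := hdeg (insert f1 (orbit f ∪ orbit g))
    rw [Finset.sum_insert (by simp [hf1O f hf hne, hf1O g hg hge]),
      Finset.sum_union (hdisj f hf g hg hgO), (data f hf hne).2.2.2, (data g hg hge).2.2.2, hf1deg,
      mul_one] at this
    omega
  have w3 : ∀ f ∈ s, f ≠ f1 → ∀ g ∈ s, g ≠ f1 → g ∉ orbit f → ∀ h ∈ s, h ≠ f1 → h ∉ orbit f →
      h ∉ orbit g →
      2 * (halfDeg f * c f) + 2 * (halfDeg g * c g) + 2 * (halfDeg h * c h) + c f1 ≤ 8 := by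
    intro f hf hne g hg hge hgO h hh hhe hhf hhg
    have := hdeg (insert f1 (orbit f ∪ orbit g ∪ orbit h))
    rw [Finset.sum_insert (by simp [hf1O f hf hne, hf1O g hg hge, hf1O h hh hhe]),
      Finset.sum_union (Finset.disjoint_union_left.2 ⟨hdisj f hf h hh hhf, hdisj g hg h hh hhg⟩),
      Finset.sum_union (hdisj f hf g hg hgO), (data f hf hne).2.2.2, (data g hg hge).2.2.2,
      (data h hh hhe).2.2.2, hf1deg, mul_one] at this
    omega
  -- the annihilation criterion
  have key : ∀ S k : ℕ, c f1 ≤ 2 ^ k → (∀ g ∈ s, g ≠ f1 → expo g ∣ S ∧ c g ≤ 2 ^ k) →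
      S * 2 ^ k ∈ bounds q → ∃ n ∈ bounds q, minpoly F A * f1 ^ δ ∣ X ^ n - 1 := by
    intro S k hk hg hmemb
    refine ⟨_, hmemb, ?_⟩
    rcases Nat.eq_zero_or_pos S with rfl | hS
    · rw [zero_mul, pow_zero, sub_self]; exact dvd_zero _
    have hne : (X ^ S - 1 : F[X]) ≠ 0 := by
      rw [← C_1]; exact X_pow_sub_C_ne_zero hS 1
    have hdvd : minpoly F A * f1 ^ δ ∣ (X ^ S - 1) ^ 2 ^ k := by
      rw [dvd_iff_normalizedFactors_le_normalizedFactors (mul_ne_zero hμ0 (pow_ne_zero _ hi1.ne_zero))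
          (pow_ne_zero _ hne), hnf, normalizedFactors_pow, Multiset.le_iff_count]
      intro g
      rw [Multiset.count_nsmul]
      by_cases hgs : g ∈ s
      · have hg' : g ∈ normalizedFactors (X ^ S - 1 : F[X]) := by
          rw [mem_normalizedFactors_iff' hne]
          refine ⟨(hsfac g hgs).1, (hsfac g hgs).2, ?_⟩
          by_cases h1 : g = f1
          · rw [h1, hf1]; exact dvd_X_pow_sub_one (a := 1) (by rw [pow_one]) (one_dvd _)
          · exact dvd_X_pow_sub_one (data g hgs h1).2.2.1 (hg g hgs h1).1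
        calc s.count g ≤ 2 ^ k := by
              by_cases h1 : g = f1
              · rw [h1]; exact hk
              · exact (hg g hgs h1).2
          _ ≤ 2 ^ k * Multiset.count g (normalizedFactors (X ^ S - 1 : F[X])) :=
              Nat.le_mul_of_pos_right _ (Multiset.count_pos.2 hg')
      · show Multiset.count g s ≤ _
        rw [Multiset.count_eq_zero.2 hgs]; exact Nat.zero_le _
    rwa [sub_pow_char_pow, one_pow, ← pow_mul] at hdvd
  -- arithmetic
  have e3p : q + 1 ∣ q ^ 3 + 1 := by simpa using Odd.nat_add_dvd_pow_add_pow q 1 (n := 3) (by decide)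
  have esub : ∀ k, q - 1 ∣ q ^ k - 1 := fun k => by simpa using Nat.sub_dvd_pow_sub_pow q 1 k
  have e21 : (q + 1) * (q - 1) = q ^ 2 - 1 := by
    rw [← Nat.sq_sub_sq, one_pow]
  have e42 : (q ^ 2 + 1) * (q ^ 2 - 1) = q ^ 4 - 1 := by
    rw [← Nat.sq_sub_sq, one_pow, ← pow_mul]
  have d1 : ∀ g : F[X], halfDeg g = 1 → expo g = q + 1 ∨ expo g = q - 1 := fun g hg => by
    simpa using expo_cases hg
  have d1sq : ∀ g : F[X], halfDeg g = 1 → expo g ∣ q ^ 2 - 1 := fun g hg => by
    rcases d1 g hg with h | h <;> rw [h, ← e21]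
    · exact dvd_mul_right _ _
    · exact dvd_mul_left _ _
  by_cases h4 : ∃ f ∈ s, f ≠ f1 ∧ 4 ≤ halfDeg f
  · obtain ⟨f, hf, hne, hd⟩ := h4
    obtain ⟨-, hcf, -, -⟩ := data f hf hne
    have := w1 f hf hne
    have he : halfDeg f = 4 := by nlinarith
    rw [he] at this
    have hall : ∀ g ∈ s, g ≠ f1 → expo g ∣ expo f ∧ c g ≤ 2 ^ 0 := by
      intro g hg hge
      by_cases hO : g ∈ orbit f
      · rw [(orbit_eq (hsfac f hf).2 hO).2, hcnt f hf hne g hO]
        exact ⟨dvd_rfl, by omega⟩
      · have := w2 f hf hne g hg hge hO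
        obtain ⟨a, b, -, -⟩ := data g hg hge
        have := Nat.mul_le_mul a b
        rw [he] at *
        omega
    refine key (expo f) 0 (by omega) hall ?_
    rcases expo_cases he with h | h <;> rw [h, pow_zero, mul_one] <;> simp [bounds, hq]
  by_cases h3 : ∃ f ∈ s, f ≠ f1 ∧ halfDeg f = 3
  · obtain ⟨f, hf, hne, he⟩ := h3
    obtain ⟨-, hcf, -, -⟩ := data f hf hne
    have hw := w1 f hf hne
    rw [he] at hw
    by_cases hother : ∃ g ∈ s, g ≠ f1 ∧ g ∉ orbit f
    · obtain ⟨g, hg, hge, hgO⟩ := hother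
      have hw2 := w2 f hf hne g hg hge hgO
      rw [he] at hw2
      obtain ⟨a, b, -, -⟩ := data g hg hge
      have := Nat.mul_le_mul a b
      refine key (if rcp f = f then (q ^ 3 + 1) * (q - 1) else (q ^ 3 - 1) * (q + 1)) 0 (by omega) ?_
        (by split_ifs <;> simp [bounds])
      intro h hh hhe
      by_cases hO : h ∈ orbit f
      · rw [(orbit_eq (hsfac f hf).2 hO).2, hcnt f hf hne h hO, expo, he]
        refine ⟨?_, by omega⟩
        split_ifs <;> exact dvd_mul_right _ _
      · have := w2 f hf hne h hh hhe hO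
        rw [he] at this
        obtain ⟨a, b, -, -⟩ := data h hh hhe
        have hpos := Nat.mul_le_mul a b
        have hh1 : halfDeg h * c h = 1 := by omega
        obtain ⟨hd1, hc1⟩ := Nat.eq_one_of_mul_eq_one_left hh1, Nat.eq_one_of_mul_eq_one_right hh1
        refine ⟨?_, by rw [Nat.eq_one_of_mul_eq_one_left hh1]; norm_num⟩
        rcases d1 h (Nat.eq_one_of_mul_eq_one_right hh1) with e | e <;> rw [e] <;> split_ifs
        · exact e3p.mul_right _
        · exact dvd_mul_left _ _
        · exact dvd_mul_left _ _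
        · exact (esub 3).mul_right _
    · push Not at hother
      refine key (expo f) 1 (by omega) (fun g hg hge => ?_) ?_
      · rw [(orbit_eq (hsfac f hf).2 (hother g hg hge)).2, hcnt f hf hne g (hother g hg hge)]
        exact ⟨dvd_rfl, by omega⟩
      · rcases expo_cases he with h | h <;> rw [h] <;> simp [bounds, hq]
  push Not at h4 h3
  have hle2 : ∀ g ∈ s, g ≠ f1 → halfDeg g ≤ 2 := fun g hg hge => by
    have := h4 g hg hge; have := h3 g hg hge; omega
  by_cases h2' : ∃ f ∈ s, f ≠ f1 ∧ halfDeg f = 2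
  · obtain ⟨f, hf, hne, he⟩ := h2'
    obtain ⟨-, hcf, -, -⟩ := data f hf hne
    have hw := w1 f hf hne
    rw [he] at hw
    by_cases hbig : c f = 2 ∨ 3 ≤ c f1
    · refine key (expo f) 2 (by omega) (fun g hg hge => ?_) ?_
      · by_cases hO : g ∈ orbit f
        · rw [(orbit_eq (hsfac f hf).2 hO).2, hcnt f hf hne g hO]
          exact ⟨dvd_rfl, by omega⟩
        · exfalso
          have := w2 f hf hne g hg hge hO
          rw [he] at this
          obtain ⟨a, b, -, -⟩ := data g hg hge
          have := Nat.mul_le_mul a b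
          omega
      · rcases expo_cases he with h | h <;> rw [h] <;> simp [bounds, hq]
    push Not at hbig
    have hc1 : c f = 1 := by omega
    by_cases htwo : ∃ g ∈ s, g ≠ f1 ∧ g ∉ orbit f ∧ halfDeg g = 2
    · obtain ⟨g, hg, hge, hgO, heg⟩ := htwo
      have := w2 f hf hne g hg hge hgO
      obtain ⟨-, b, -, -⟩ := data g hg hge
      rw [he, heg] at this
      refine key (q ^ 4 - 1) 0 (by omega) (fun h hh hhe => ?_) (by simp [bounds])
      have hd2 : halfDeg h = 2 ∧ c h ≤ 1 := by
        by_cases h1 : h ∈ orbit f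
        · exact ⟨((orbit_eq (hsfac f hf).2 h1).1).trans he, by rw [hcnt f hf hne h h1]; omega⟩
        by_cases h2 : h ∈ orbit g
        · exact ⟨((orbit_eq (hsfac g hg).2 h2).1).trans heg, by rw [hcnt g hg hge h h2]; omega⟩
        have := w3 f hf hne g hg hge hgO h hh hhe h1 h2
        rw [he, heg] at this
        obtain ⟨a, b', -, -⟩ := data h hh hhe
        have := Nat.mul_le_mul a b'
        omega
      refine ⟨?_, by rw [pow_zero]; exact hd2.2⟩
      rcases expo_cases hd2.1 with e | e <;> rw [e, ← e42, hq]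
      · exact dvd_mul_right _ _
      · exact dvd_mul_left _ _
    push Not at htwo
    have hrest : ∀ g ∈ s, g ≠ f1 → g ∉ orbit f → halfDeg g = 1 ∧ c g ≤ 2 := by
      intro g hg hge hO
      have h2'' := w2 f hf hne g hg hge hO
      obtain ⟨a, b, -, -⟩ := data g hg hge
      have hg1 : halfDeg g = 1 := by
        have := hle2 g hg hge; have := htwo g hg hge hO; omega
      rw [he, hg1] at h2''
      exact ⟨hg1, by omega⟩
    by_cases hsf : rcp f = f
    swap
    · refine key (q ^ 2 - 1) 2 (by omega) (fun g hg hge => ?_) (by simp [bounds])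
      by_cases hO : g ∈ orbit f
      · rw [(orbit_eq (hsfac f hf).2 hO).2, hcnt f hf hne g hO, expo, if_neg hsf, he]
        exact ⟨dvd_rfl, by omega⟩
      · exact ⟨d1sq g (hrest g hg hge hO).1, by have := (hrest g hg hge hO).2; omega⟩
    have hef : expo f = q ^ 2 + 1 := by rw [expo, if_pos hsf, he]
    by_cases hmix : (∃ g ∈ s, g ≠ f1 ∧ g ∉ orbit f ∧ expo g = q + 1) ∧
        ∃ g ∈ s, g ≠ f1 ∧ g ∉ orbit f ∧ expo g ≠ q + 1
    · obtain ⟨⟨g, hg, hge, hgO, hgp⟩, h, hh, hhe, hhO, hhp⟩ := hmix
      have hhg : h ∉ orbit g := fun hm => hhp ((orbit_eq (hsfac g hg).2 hm).2.trans hgp)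
      have h3' := w3 f hf hne g hg hge hgO h hh hhe hhO hhg
      rw [he, hc1, (hrest g hg hge hgO).1, (hrest h hh hhe hhO).1] at h3'
      obtain ⟨-, bg, -, -⟩ := data g hg hge
      obtain ⟨-, bh, -, -⟩ := data h hh hhe
      refine key (q ^ 4 - 1) 0 (by omega) (fun k hk hke => ?_) (by simp [bounds])
      by_cases hO : k ∈ orbit f
      · rw [(orbit_eq (hsfac f hf).2 hO).2, hcnt f hf hne k hO, hef, ← e42]
        exact ⟨dvd_mul_right _ _, by omega⟩
      · refine ⟨(d1sq k (hrest k hk hke hO).1).trans (by rw [← e42]; exact dvd_mul_left _ _), ?_⟩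
        by_cases h1 : k ∈ orbit g
        · rw [hcnt g hg hge k h1]; omega
        by_cases h2 : k ∈ orbit h
        · rw [hcnt h hh hhe k h2]; omega
        exfalso
        have := hdeg (insert f1 (orbit f ∪ orbit g ∪ orbit h ∪ orbit k))
        rw [Finset.sum_insert (by simp [hf1O f hf hne, hf1O g hg hge, hf1O h hh hhe, hf1O k hk hke]),
          Finset.sum_union (Finset.disjoint_union_left.2 ⟨Finset.disjoint_union_left.2
            ⟨hdisj f hf k hk hO, hdisj g hg k hk h1⟩, hdisj h hh k hk h2⟩),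
          Finset.sum_union (Finset.disjoint_union_left.2 ⟨hdisj f hf h hh hhO, hdisj g hg h hh hhg⟩),
          Finset.sum_union (hdisj f hf g hg hgO), (data f hf hne).2.2.2, (data g hg hge).2.2.2,
          (data h hh hhe).2.2.2, (data k hk hke).2.2.2, he, hc1, (hrest g hg hge hgO).1,
          (hrest h hh hhe hhO).1, (hrest k hk hke hO).1] at this
        obtain ⟨-, bk, -, -⟩ := data k hk hke
        omega
    · rw [not_and_or] at hmix
      push Not at hmix
      refine key (if ∃ g ∈ s, g ≠ f1 ∧ g ∉ orbit f ∧ expo g = q + 1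
        then (q ^ 2 + 1) * (q + 1) else (q ^ 2 + 1) * (q - 1)) 1 (by omega) (fun k hk hke => ?_)
        (by split_ifs <;> simp [bounds])
      by_cases hO : k ∈ orbit f
      · rw [(orbit_eq (hsfac f hf).2 hO).2, hcnt f hf hne k hO, hef]
        refine ⟨?_, by omega⟩
        split_ifs <;> exact dvd_mul_right _ _
      · refine ⟨?_, by have := (hrest k hk hke hO).2; omega⟩
        split_ifs with hp'
        · obtain ⟨g, hg, hge, hgO, hgp⟩ := hp'
          rcases hmix with h | h
          · exact absurd hgp (h g hg hge hgO)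
          · rw [h k hk hke hO]; exact dvd_mul_left _ _
        · push Not at hp'
          rcases d1 k (hrest k hk hke hO).1 with e | e
          · exact absurd e (hp' k hk hke hO)
          · rw [e]; exact dvd_mul_left _ _
  push Not at h2'
  have hone : ∀ g ∈ s, g ≠ f1 → halfDeg g = 1 := fun g hg hge => by
    have := hle2 g hg hge; have := h2' g hg hge; have := (data g hg hge).1; omega
  by_cases hbig : c f1 ≤ 4
  · refine key (q ^ 2 - 1) 2 (by omega) (fun g hg hge => ⟨d1sq g (hone g hg hge), ?_⟩) (by simp [bounds])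
    have := w1 g hg hge
    rw [hone g hg hge] at this
    omega
  by_cases hex : ∃ f ∈ s, f ≠ f1
  · obtain ⟨f, hf, hne⟩ := hex
    have hw := w1 f hf hne
    rw [hone f hf hne] at hw
    refine key (expo f) 3 (by omega) (fun g hg hge => ?_) ?_
    · by_cases hO : g ∈ orbit f
      · rw [(orbit_eq (hsfac f hf).2 hO).2, hcnt f hf hne g hO]
        exact ⟨dvd_rfl, by omega⟩
      · exfalso
        have := w2 f hf hne g hg hge hO
        rw [hone f hf hne, hone g hg hge] at this
        have := (data f hf hne).2.1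
        have := (data g hg hge).2.1
        omega
    · rcases d1 f (hone f hf hne) with h | h <;> rw [h] <;> simp [bounds]
  · push Not at hex
    refine key (q + 1) 3 ?_ (fun g hg hge => absurd (hex g hg) hge) (by simp [bounds])
    have := hdeg {f1}
    rw [Finset.sum_singleton, hf1deg] at this
    omega

theorem exists_bound {A : Matrix ι ι F} (h2 : (2 : F) = 0) (hι : Fintype.card ι ≤ 8) {N : ℕ}
    (hN : 0 < N) (hA : A ^ N = 1) (hinv : H55.InvClosed A) :
    ∃ n ∈ bounds (Nat.card F), A ^ n = 1 := by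
  obtain ⟨n, hn, hd⟩ := exists_bound_pad h2 (δ := 0)
    (by rw [add_zero]; exact (H55.minpoly_natDegree_le_card A).trans hι) hN hA hinv
  rw [pow_zero, mul_one] at hd
  have h := aeval_eq_zero_of_dvd_aeval_eq_zero hd (minpoly.aeval F A)
  rw [map_sub, map_pow, aeval_X, map_one, sub_eq_zero] at h
  exact ⟨n, hn, h⟩

end Cfsg.Agent.H69.SpecEight
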