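import Cfsg.Agent.H69.SpecEight.Torus
import Cfsg.Agent.H69.SpecEight.Upper
import Cfsg.Agent.Symplectic.Center

/-!
Every maximal element order of `Sp₈(q)`, `q` even, divides the order of an element of `O₈⁻(q)`;
`O₈⁻(q)` embeds into `Sp₈(q)`.
-/

set_option autoImplicit false

namespace Cfsg.Agent.H69.SpecEight

open QuadraticMap Module Cfsg.Agent.Orthogonal

variable {F : Type*} [Field F]

/-- Split off the first hyperbolic pair of a minus form. -/
def splitMinus (F : Type*) [Field F] (k : ℕ) :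
    ((Fin (k + 1) ⊕ Fin (k + 1)) ⊕ Fin 2 → F) →ₗ[F] (F × F) × ((Fin k ⊕ Fin k) ⊕ Fin 2 → F) where
  toFun v := ((v (.inl (.inl 0)), v (.inl (.inr 0))),
    Sum.elim (Sum.elim (fun i => v (.inl (.inl i.succ))) (fun i => v (.inl (.inr i.succ)))) (fun j => v (.inr j)))
  map_add' v w := by refine Prod.ext rfl (funext fun s => ?_); rcases s with (i | i) | i <;> rfl
  map_smul' c v := by refine Prod.ext rfl (funext fun s => ?_); rcases s with (i | i) | i <;> rfl

theorem splitMinus_apply (k : ℕ) (a b : F) (v : (Fin (k + 1) ⊕ Fin (k + 1)) ⊕ Fin 2 → F) :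
    (hyp F).prod (formMinus F k a b) (splitMinus F k v) = formMinus F (k + 1) a b v := by
  simp only [QuadraticMap.prod_apply, hyp_apply, formMinus_coe, splitMinus, LinearMap.coe_mk,
    AddHom.coe_mk, Cfsg.quadFormMinus, Sum.elim_inl, Sum.elim_inr, Fin.sum_univ_succ (n := k)]
  ring

theorem finrank_pair : finrank F (F × F) = 2 := by simp

variable [Finite F] [CharP F 2] {a b : F}
  (hab : ∀ z₁ z₂ : F, z₁ ^ 2 + a * z₁ * z₂ + b * z₂ ^ 2 = 0 → z₁ = 0 ∧ z₂ = 0)

include hab in
theorem real_split {k n : ℕ} (h : Real ((hyp F).prod (formMinus F k a b)) n) :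
    Real (formMinus F (k + 1) a b) n :=
  Real.of_iso (splitMinus F k) (splitMinus_apply k a b) (formMinus_nondeg _ hab)
    (by rw [finrank_formMinus, Module.finrank_prod, finrank_pair, finrank_formMinus]; ring) h

omit [Finite F] [CharP F 2] in
theorem real_plus_two {n : ℕ} (h : Real ((hyp F).prod (hyp F)) n) : Real (formPlus F 2) n := by
  let L : (Fin 2 ⊕ Fin 2 → F) →ₗ[F] (F × F) × (F × F) :=
    { toFun := fun v => ((v (.inl 0), v (.inr 0)), (v (.inl 1), v (.inr 1)))
      map_add' := fun _ _ => rfl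
      map_smul' := fun _ _ => rfl }
  refine Real.of_iso L (fun v => ?_) (formPlus_nondeg F 2) (by rw [finrank_formPlus]; simp) h
  simp [L, QuadraticMap.prod_apply, hyp_apply, formPlus_coe, Cfsg.quadFormPlus, Fin.sum_univ_two]

omit [Finite F] [CharP F 2] in
theorem real_plus_three {n : ℕ} (h : Real ((hyp F).prod ((hyp F).prod (hyp F))) n) :
    Real (formPlus F 3) n := by
  let L : (Fin 3 ⊕ Fin 3 → F) →ₗ[F] (F × F) × ((F × F) × (F × F)) :=
    { toFun := fun v => ((v (.inl 0), v (.inr 0)), ((v (.inl 1), v (.inr 1)), (v (.inl 2), v (.inr 2))))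
      map_add' := fun _ _ => rfl
      map_smul' := fun _ _ => rfl }
  refine Real.of_iso L (fun v => ?_) (formPlus_nondeg F 3) (by rw [finrank_formPlus]; simp) h
  simp [L, QuadraticMap.prod_apply, hyp_apply, formPlus_coe, Cfsg.quadFormPlus, Fin.sum_univ_three]
  ring

include hab in
theorem real_minus_three_21 {n : ℕ} (h : Real ((formPlus F 2).prod (formMinus F 1 a b)) n) :
    Real (formMinus F 3 a b) n := by
  let L : ((Fin 3 ⊕ Fin 3) ⊕ Fin 2 → F) →ₗ[F] (Fin 2 ⊕ Fin 2 → F) × ((Fin 1 ⊕ Fin 1) ⊕ Fin 2 → F) :=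
    { toFun := fun v => (Sum.elim (fun i => v (.inl (.inl i.castSucc))) (fun i => v (.inl (.inr i.castSucc))),
        Sum.elim (Sum.elim (fun _ => v (.inl (.inl (Fin.last 2)))) (fun _ => v (.inl (.inr (Fin.last 2)))))
          (fun j => v (.inr j)))
      map_add' := fun v w => by
        refine Prod.ext (funext fun s => ?_) (funext fun s => ?_)
        · rcases s with i | i <;> rfl
        · rcases s with (i | i) | i <;> rfl
      map_smul' := fun c v => by
        refine Prod.ext (funext fun s => ?_) (funext fun s => ?_)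
        · rcases s with i | i <;> rfl
        · rcases s with (i | i) | i <;> rfl }
  refine Real.of_iso L (fun v => ?_) (formMinus_nondeg _ hab)
    (by rw [finrank_formMinus, Module.finrank_prod, finrank_formPlus, finrank_formMinus]) h
  simp only [L, LinearMap.coe_mk, AddHom.coe_mk, QuadraticMap.prod_apply, formPlus_coe, formMinus_coe,
    Cfsg.quadFormPlus, Cfsg.quadFormMinus, Sum.elim_inl, Sum.elim_inr, Fin.sum_univ_castSucc (n := 2),
    Fin.sum_univ_one]
  ring

include hab in
theorem real_minus_three_30 {n : ℕ} (h : Real ((formPlus F 3).prod (formMinus F 0 a b)) n) :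
    Real (formMinus F 3 a b) n := by
  let L : ((Fin 3 ⊕ Fin 3) ⊕ Fin 2 → F) →ₗ[F] (Fin 3 ⊕ Fin 3 → F) × ((Fin 0 ⊕ Fin 0) ⊕ Fin 2 → F) :=
    { toFun := fun v => (fun s => v (.inl s), Sum.elim 0 (fun j => v (.inr j)))
      map_add' := fun v w => by
        refine Prod.ext rfl (funext fun s => ?_)
        rcases s with s | i
        · simp
        · rfl
      map_smul' := fun c v => by
        refine Prod.ext rfl (funext fun s => ?_)
        rcases s with s | i
        · simp
        · rfl }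
  refine Real.of_iso L (fun v => ?_) (formMinus_nondeg _ hab)
    (by rw [finrank_formMinus, Module.finrank_prod, finrank_formPlus, finrank_formMinus]) h
  simp [L, QuadraticMap.prod_apply, formPlus_coe, formMinus_coe, Cfsg.quadFormPlus, Cfsg.quadFormMinus]

include hab in
/-- Two copies of the anisotropic plane make a hyperbolic space. -/
theorem real_plus_two' {n : ℕ} (h : Real ((formMinus F 0 a b).prod (formMinus F 0 a b)) n) :
    Real (formPlus F 2) n := by
  have ha := coeff_ne_zero hab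
  let L : (Fin 2 ⊕ Fin 2 → F) →ₗ[F] ((Fin 0 ⊕ Fin 0) ⊕ Fin 2 → F) × ((Fin 0 ⊕ Fin 0) ⊕ Fin 2 → F) :=
    { toFun := fun v => (ellV (v (.inl 0) + b / a ^ 2 * v (.inr 0))
          (v (.inl 1) + (a ^ 2)⁻¹ * v (.inr 1) + a⁻¹ * v (.inr 0)),
        ellV (v (.inl 0) + b / a ^ 2 * v (.inr 0) + a⁻¹ * v (.inr 1))
          (v (.inl 1) + (a ^ 2)⁻¹ * v (.inr 1)))
      map_add' := fun v w => by
        refine Prod.ext (ell_ext ?_ ?_) (ell_ext ?_ ?_) <;>
          simp [ellX, ellY, ellV] <;> ring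
      map_smul' := fun c v => by
        refine Prod.ext (ell_ext ?_ ?_) (ell_ext ?_ ?_) <;>
          simp [ellX, ellY, ellV] <;> ring }
  refine Real.of_iso L (fun v => ?_) (formPlus_nondeg F 2)
    (by rw [finrank_formPlus, Module.finrank_prod, finrank_formMinus]) h
  have h2 : (2 : F) = 0 := two_eq_zero'
  simp only [L, LinearMap.coe_mk, AddHom.coe_mk, QuadraticMap.prod_apply, formMinus_zero_apply,
    ellX_mk, ellY_mk, formPlus_coe, Cfsg.quadFormPlus, Fin.sum_univ_two]
  set x1 := v (.inl 0)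
  set x2 := v (.inl 1)
  set y1 := v (.inr 0)
  set y2 := v (.inr 1)
  have ha' : a * a⁻¹ = 1 := mul_inv_cancel₀ ha
  set p := x1 + b / a ^ 2 * y1 with hp
  set r := x2 + (a ^ 2)⁻¹ * y2 with hr
  rw [div_eq_mul_inv, ← inv_pow] at hp
  rw [← inv_pow] at hr
  linear_combination (p ^ 2 + a * p * r + b * r ^ 2 + p * y2 * a⁻¹ + b * r * y1 * a⁻¹ +
      y2 ^ 2 * a⁻¹ ^ 2 + b * y1 ^ 2 * a⁻¹ ^ 2) * h2 + (p * y1 + r * y2) * ha' + y1 * hp + y2 * hr

omit [Finite F] in
theorem flip_sum_ne {a b : F} (ha : a ≠ 0) :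
    ellV (0 : F) 1 + (flipO a b : _ ≃ₗ[F] _) (ellV (0 : F) 1) ≠ 0 := by
  intro e
  have := congrArg ellX e
  simp [ellX, flipO_app, flipLin, ellV] at this
  exact ha this

omit [CharP F 2] in
theorem flip_sq (a b : F) : flipO a b * flipO a b = 1 := O.ext_app (flipLin_involutive a)

include hab in
theorem real_flip : Real (formMinus F 0 a b) 2 := by
  haveI : Fact (Nat.Prime 2) := ⟨Nat.prime_two⟩
  refine ⟨flipO a b, dvd_of_eq (orderOf_eq_prime (p := 2) (by rw [pow_two, flip_sq]) fun e => ?_).symm⟩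
  have h := flip_sum_ne (b := b) (coeff_ne_zero hab)
  rw [e, Subgroup.coe_one, one_app, add_self_eq_zero' (two_eq_zero' (F := F))] at h
  exact h rfl

include hab in
/-- An element of order four in `hyp ⊕ plane` with a non-vanishing orbit sum. -/
theorem exists_four : ∃ g : O ((hyp F).prod (formMinus F 0 a b)), orderOf g = 4 ∧
    ∃ v, ∑ i ∈ Finset.range 4, ((g ^ i : O ((hyp F).prod (formMinus F 0 a b))) :
      ((F × F) × ((Fin 0 ⊕ Fin 0) ⊕ Fin 2 → F)) ≃ₗ[F] ((F × F) × ((Fin 0 ⊕ Fin 0) ⊕ Fin 2 → F))) v ≠ 0 := by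
  have h2 : (2 : F) = 0 := two_eq_zero'
  have ha := coeff_ne_zero hab
  set u : (Fin 0 ⊕ Fin 0) ⊕ Fin 2 → F := ellV (0 : F) 1
  set g := extO h2 u (flipO a b) with hg
  have hord : orderOf g = 4 := orderOf_extO h2 u (flipO a b) 1 (by rw [pow_one, pow_two, flip_sq]) (by
    simp only [pow_one, Finset.sum_range_succ, Finset.sum_range_zero, zero_add, pow_zero,
      Subgroup.coe_one, one_app]
    exact flip_sum_ne ha)
  let u' : (F × F) × ((Fin 0 ⊕ Fin 0) ⊕ Fin 2 → F) := ((0, 1), 0)
  refine ⟨g, hord, u', ?_⟩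
  rw [sum_four (two_eq_zero' (F := F))]
  intro e
  have h1 := congrArg (fun p : (F × F) × ((Fin 0 ⊕ Fin 0) ⊕ Fin 2 → F) => p.1.1) e
  simp only [u', hg, extO_app, Prod.fst_add, map_zero, map_add, zero_add, one_smul, one_mul,
    QuadraticMap.polar_zero_left, add_zero, Prod.fst_zero] at h1
  rw [show (flipO a b : ((Fin 0 ⊕ Fin 0) ⊕ Fin 2 → F) ≃ₗ[F] ((Fin 0 ⊕ Fin 0) ⊕ Fin 2 → F))
      ((flipO a b : ((Fin 0 ⊕ Fin 0) ⊕ Fin 2 → F) ≃ₗ[F] ((Fin 0 ⊕ Fin 0) ⊕ Fin 2 → F)) u) = u from
      flipLin_involutive a u] at h1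
  set w := (flipO a b : ((Fin 0 ⊕ Fin 0) ⊕ Fin 2 → F) ≃ₗ[F] ((Fin 0 ⊕ Fin 0) ⊕ Fin 2 → F)) u with hw
  have hB : polar (formMinus F 0 a b) w u = a ^ 2 := by
    simp only [QuadraticMap.polar, hw, flipO_app, u, formMinus_zero_apply]
    simp [ellX, ellY, ellV, flipLin]
    linear_combination -b * h2
  rw [QuadraticMap.polar_add_left, hB] at h1
  have hself : polar (formMinus F 0 a b) u u = 0 := by rw [polar_self', h2, zero_mul]
  rw [hself] at h1
  exact pow_ne_zero 2 ha (by linear_combination h1 - 3 * formMinus F 0 a b u * h2 - a ^ 2 * h2)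

include hab in
/-- An element of order four in `hyp ⊕ plane`, and the eight-element built on it. -/
theorem real_four_eight :
    Real ((hyp F).prod (formMinus F 0 a b)) 4 ∧
      Real ((hyp F).prod ((hyp F).prod (formMinus F 0 a b))) 8 := by
  obtain ⟨g, hord, u, hu⟩ := exists_four hab
  refine ⟨⟨g, by rw [hord]⟩, ⟨extO two_eq_zero' u g,
    dvd_of_eq (orderOf_extO two_eq_zero' u g 2 ?_ (by simpa using hu)).symm⟩⟩
  rw [show (2 : ℕ) ^ 2 = 4 by norm_num, ← hord, pow_orderOf_eq_one]

omit [Finite F] in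
/-- An element of order four in `hyp ⊕ hyp` with a non-vanishing orbit sum. -/
theorem exists_four_plus : ∃ g : O ((hyp F).prod (hyp F)), orderOf g = 4 ∧
    ∃ v, ∑ i ∈ Finset.range 4, ((g ^ i : O ((hyp F).prod (hyp F))) :
      ((F × F) × (F × F)) ≃ₗ[F] ((F × F) × (F × F))) v ≠ 0 := by
  let π : (F × F) × (F × F) →ₗ[F] (F × F) × (F × F) :=
    { toFun := fun v => ((v.2.2, v.2.1), (v.1.1, v.1.2))
      map_add' := fun _ _ => rfl
      map_smul' := fun _ _ => rfl }
  have hπ : π.comp (π.comp (π.comp π)) = LinearMap.id := LinearMap.ext fun v => rfl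
  let g : O ((hyp F).prod (hyp F)) :=
    ⟨LinearEquiv.ofLinearMap π (π.comp (π.comp π)) hπ (LinearMap.ext fun v => rfl), fun v => by
      show v.2.2 * v.2.1 + v.1.1 * v.1.2 = v.1.1 * v.1.2 + v.2.1 * v.2.2
      ring⟩
  have hg : ∀ v : (F × F) × (F × F), (g : ((F × F) × (F × F)) ≃ₗ[F] ((F × F) × (F × F))) v = ((v.2.2, v.2.1), (v.1.1, v.1.2)) := fun v => rfl
  haveI : Fact (Nat.Prime 2) := ⟨Nat.prime_two⟩
  have h4 : g ^ 4 = 1 := O.ext_app fun v => by
    simp only [pow_succ, pow_zero, one_mul, Subgroup.coe_mul, mul_app, hg, Subgroup.coe_one, one_app]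
  have hord : orderOf g = 2 ^ (1 + 1) := orderOf_eq_prime_pow (fun e => by
    have h := congrArg (fun p : (F × F) × (F × F) => p.1.1)
      (DFunLike.congr_fun (congrArg Subtype.val e) (((1, 0), (0, 0)) : (F × F) × (F × F)))
    simp only [pow_one, pow_two, Subgroup.coe_mul, mul_app, hg, Subgroup.coe_one, one_app] at h
    exact zero_ne_one h) h4
  refine ⟨g, by rw [hord]; norm_num, ((1, 0), (0, 0)), ?_⟩
  rw [sum_four (two_eq_zero' (F := F))]
  intro e
  have := congrArg (fun p : (F × F) × (F × F) => p.1.1) e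
  simp [hg] at this

omit [Finite F] in
theorem real_four_eight_plus :
    Real ((hyp F).prod (hyp F)) 4 ∧ Real ((hyp F).prod ((hyp F).prod (hyp F))) 8 := by
  obtain ⟨g, hord, u, hu⟩ := exists_four_plus (F := F)
  refine ⟨⟨g, by rw [hord]⟩, ⟨extO two_eq_zero' u g,
    dvd_of_eq (orderOf_extO two_eq_zero' u g 2 ?_ (by simpa using hu)).symm⟩⟩
  rw [show (2 : ℕ) ^ 2 = 4 by norm_num, ← hord, pow_orderOf_eq_one]

omit [Finite F] [CharP F 2] in
theorem coprime_of_dvd_pow {q k m : ℕ} (hq : Even q) (hk : k ≠ 0) (hm : m ∣ q ^ k - 1) :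
    Nat.Coprime (q ^ k + 1) m := by
  refine Nat.coprime_of_dvd fun p hp hp1 hpm => ?_
  have h1 : p ∣ q ^ k - 1 := hpm.trans hm
  have he : Even (q ^ k) := hq.pow_of_ne_zero hk
  rcases Nat.eq_zero_or_pos (q ^ k) with h0 | h0
  · rw [h0] at hp1; exact hp.ne_one (Nat.dvd_one.1 hp1)
  have h2 : p ∣ 2 := by
    have := Nat.dvd_sub hp1 h1
    rwa [show q ^ k + 1 - (q ^ k - 1) = 2 by omega] at this
  rw [(Nat.prime_dvd_prime_iff_eq hp Nat.prime_two).1 h2] at hp1
  exact Nat.two_dvd_ne_zero.2 (Nat.odd_iff.1 he.add_one) hp1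

include hab in
/-- Every bound is attained in `O₈⁻`. -/
theorem real_bounds {n : ℕ} (hn : n ∈ bounds (Nat.card F)) : Real (formMinus F 3 a b) n := by
  classical
  set q := Nat.card F with hq
  haveI : Fintype F := Fintype.ofFinite F
  have hev : Even q := by
    rw [even_iff_two_dvd]
    exact (CharP.cast_eq_zero_iff F 2 q).1 (by rw [hq, Nat.card_eq_fintype_card]; simp)
  have hq2 : 2 ≤ q := Finite.one_lt_card
  have e21 : (q + 1) * (q - 1) = q ^ 2 - 1 := by rw [← Nat.sq_sub_sq, one_pow]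
  have e42 : (q ^ 2 + 1) * (q ^ 2 - 1) = q ^ 4 - 1 := by rw [← Nat.sq_sub_sq, one_pow, ← pow_mul]
  have dp : q + 1 ∣ q ^ 2 - 1 := e21 ▸ dvd_mul_right _ _
  have dm : q - 1 ∣ q ^ 2 - 1 := e21 ▸ dvd_mul_left _ _
  have d3p : q + 1 ∣ q ^ 3 + 1 := by simpa using Odd.nat_add_dvd_pow_add_pow q 1 (n := 3) (by decide)
  have d3m : q - 1 ∣ q ^ 3 - 1 := by simpa using Nat.sub_dvd_pow_sub_pow q 1 3
  have odd_m : ∀ k, k ≠ 0 → Nat.Coprime (q ^ k - 1) 2 := fun k hk => by
    rw [Nat.coprime_two_right, Nat.odd_iff]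
    have := hev.pow_of_ne_zero hk
    have : 0 < q ^ k := by positivity
    rw [Nat.even_iff] at *; omega
  have odd_p : ∀ k, k ≠ 0 → Nat.Coprime (q ^ k + 1) 2 := fun k hk => by
    rw [Nat.coprime_two_right]; exact (hev.pow_of_ne_zero hk).add_one
  have c1 : Nat.Coprime (q + 1) 2 := by simpa using odd_p 1 one_ne_zero
  have c1' : Nat.Coprime (q - 1) 2 := by simpa using odd_m 1 one_ne_zero
  have p0 := real_minus_plane hab
  have f0 := real_flip hab
  have m1 := real_minus_torus hab 1 le_rfl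
  have m2 := real_minus_torus hab 2 (by norm_num)
  have m3 := real_minus_torus hab 3 (by norm_num)
  have p2 := real_plus_torus (F := F) 2 (by norm_num)
  have p3 := real_plus_torus (F := F) 3 (by norm_num)
  obtain ⟨g4, g8⟩ := real_four_eight hab
  obtain ⟨g4', g8'⟩ := real_four_eight_plus (F := F)
  rw [← hq] at p0 m1 m2 m3 p2 p3
  simp only [bounds, List.mem_cons, List.not_mem_nil, or_false] at hn
  rcases hn with rfl | rfl | rfl | rfl | rfl | rfl | rfl | rfl | rfl | rfl | rfl | rfl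
  · exact m3
  · rw [← e42, mul_comm]
    exact real_minus_three_21 hab (p2.prod_mul m1 (coprime_of_dvd_pow hev two_ne_zero dvd_rfl).symm)
  · rw [mul_comm]
    exact real_split hab (real_hyp_torus.prod_mul m2 (coprime_of_dvd_pow hev (by norm_num) d3m).symm)
  · exact real_minus_three_30 hab (p3.prod_mul p0 (Nat.Coprime.coprime_dvd_right d3p
      ((coprime_of_dvd_pow hev (by norm_num) dvd_rfl).symm)))
  · rw [mul_comm]
    exact real_split hab (real_hyp_swap.prod_mul m2 (odd_p 3 (by norm_num)).symm)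
  · exact real_minus_three_30 hab (p3.prod_mul f0 (odd_m 3 (by norm_num)))
  · rw [mul_assoc, mul_comm]
    exact real_minus_three_21 hab ((real_plus_two' hab (p0.prod_mul f0 c1)).prod_mul m1
      (Nat.Coprime.mul_right (coprime_of_dvd_pow hev two_ne_zero dp) (odd_p 2 two_ne_zero)).symm)
  · rw [mul_assoc, mul_comm]
    exact real_minus_three_21 hab ((real_plus_two (real_hyp_torus.prod_mul real_hyp_swap c1')).prod_mul m1
      (Nat.Coprime.mul_right (coprime_of_dvd_pow hev two_ne_zero dm) (odd_p 2 two_ne_zero)).symm)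
  · rw [mul_comm]
    exact real_minus_three_21 hab ((real_plus_two g4').prod_mul m1
      ((odd_p 2 two_ne_zero).pow_right 2).symm)
  · exact real_minus_three_21 hab (p2.prod_mul (real_split hab g4) ((odd_m 2 two_ne_zero).pow_right 2))
  · rw [mul_comm]
    exact real_minus_three_30 hab ((real_plus_three g8').prod_mul p0 (c1.pow_right 3).symm)
  · refine real_split hab (real_hyp_torus.prod_mul (Real.of_iso ?_ ?_ (formMinus_nondeg 2 hab) ?_ g8)
      (c1'.pow_right 3))
    · exact (LinearMap.prodMap LinearMap.id (splitMinus F 0)).comp (splitMinus F 1)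
    · intro v
      rw [← splitMinus_apply 1 a b v]
      simp only [LinearMap.comp_apply, LinearMap.prodMap_apply, LinearMap.id_apply,
        QuadraticMap.prod_apply, ← splitMinus_apply 0 a b]
    · rw [finrank_formMinus]; simp

/-! ### The symplectic side -/

open scoped Matrix

omit [Finite F] in
theorem orderOf_mk_PSp {m : ℕ} (hm : 1 ≤ m) (g : Matrix.symplecticGroup (Fin m) F) :
    orderOf (QuotientGroup.mk g : Cfsg.PSp m F) = orderOf g := by
  refine orderOf_injective (QuotientGroup.mk' (Subgroup.center (Matrix.symplecticGroup (Fin m) F))) ?_ g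
  rw [← MonoidHom.ker_eq_bot_iff, QuotientGroup.ker_mk', Subgroup.eq_bot_iff_forall]
  intro z hz
  obtain ⟨c, hc⟩ := (Symplectic.mem_center_iff z).1 hz
  have hc1 : c = 1 := by
    have h := Symplectic.scalar_sq hm z hc
    have : (c + 1) ^ 2 = 0 := by rw [CharTwo.add_sq, h, one_pow, CharTwo.add_self_eq_zero]
    exact CharTwo.add_eq_zero.1 ((pow_eq_zero_iff two_ne_zero).1 this)
  exact Symplectic.sp_ext fun v => by rw [hc v, hc1, one_smul, Submonoid.coe_one, Matrix.one_mulVec]

theorem exists_symplectic_bound (g : Matrix.symplecticGroup (Fin 4) F) :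
    ∃ n ∈ bounds (Nat.card F), orderOf g ∣ n := by
  haveI : Finite (Matrix.symplecticGroup (Fin 4) F) := Subtype.finite
  set A : Matrix (Fin 4 ⊕ Fin 4) (Fin 4 ⊕ Fin 4) F := g.1
  have hA : A ^ orderOf g = 1 := by
    rw [← SubmonoidClass.coe_pow, pow_orderOf_eq_one, Submonoid.coe_one]
  have hinv : H55.InvClosed A := H55.InvClosed.of_form
    ((Matrix.isUnit_iff_isUnit_det _).2 (Matrix.isUnit_det_J (Fin 4) F)) (SymplecticGroup.mem_iff'.1 g.2)
  obtain ⟨n, hn, h⟩ := exists_bound two_eq_zero' (by simp) (orderOf_pos g) hA hinv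
  exact ⟨n, hn, orderOf_dvd_of_pow_eq_one (Subtype.ext (by rw [SubmonoidClass.coe_pow]; exact h))⟩

include hab in
/-- `O₈⁻` embeds into `Sp₈`. -/
theorem exists_embedding :
    ∃ f : O (formMinus F 3 a b) →* Matrix.symplecticGroup (Fin 4) F, Function.Injective f := by
  have ha := coeff_ne_zero hab
  have h2 : (2 : F) = 0 := two_eq_zero'
  let E : (Fin 4 ⊕ Fin 4 → F) ≃ₗ[F] ((Fin 3 ⊕ Fin 3) ⊕ Fin 2 → F) :=
    { toFun := fun u => Sum.elim (Sum.elim (fun i => u (.inl i.castSucc)) (fun i => u (.inr i.castSucc)))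
          ![u (.inl (Fin.last 3)), a⁻¹ * u (.inr (Fin.last 3))]
      invFun := fun v => Sum.elim (Fin.snoc (fun i => v (.inl (.inl i))) (v (.inr 0)))
          (Fin.snoc (fun i => v (.inl (.inr i))) (a * v (.inr 1)))
      map_add' := fun u w => by
        funext s; rcases s with (i | i) | j
        · rfl
        · rfl
        · fin_cases j <;> simp [mul_add]
      map_smul' := fun c u => by
        funext s; rcases s with (i | i) | j
        · rfl
        · rfl
        · fin_cases j <;> simp [mul_left_comm]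
      left_inv := fun u => by
        funext s
        rcases s with i | i <;> refine Fin.lastCases ?_ (fun i => ?_) i <;>
          simp only [Sum.elim_inl, Sum.elim_inr, Fin.snoc_last, Fin.snoc_castSucc, Matrix.cons_val_zero,
            Matrix.cons_val_one]
        rw [mul_inv_cancel_left₀ ha]
      right_inv := fun v => by
        funext s; rcases s with (i | i) | j
        · simp
        · simp
        · fin_cases j <;> simp only [Sum.elim_inr, Sum.elim_inl, Fin.snoc_last, Matrix.cons_val_zero,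
            Matrix.cons_val_one, Fin.zero_eta, Fin.mk_one]
          rw [inv_mul_cancel_left₀ ha] }
  have hE : ∀ u v, polar (formMinus F 3 a b) (E u) (E v) = Symplectic.spB 4 F u v := by
    intro u v
    rw [polar_formMinus, Symplectic.spB_apply, Symplectic.sympForm_eq, Fin.sum_univ_castSucc (n := 3)]
    simp only [E, LinearEquiv.coe_mk, LinearMap.coe_mk, AddHom.coe_mk, Sum.elim_inl, Sum.elim_inr,
      Matrix.cons_val_zero, Matrix.cons_val_one, h2, zero_mul, mul_zero, zero_add, add_zero,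
      CharTwo.sub_eq_add]
    refine congrArg₂ (· + ·) (Finset.sum_congr rfl fun i _ => by ring) ?_
    field_simp
    ring
  let f : O (formMinus F 3 a b) →* Symplectic.Isom (Symplectic.spB 4 F) :=
    { toFun := fun g => ⟨(E.trans (g : ((Fin 3 ⊕ Fin 3) ⊕ Fin 2 → F) ≃ₗ[F] ((Fin 3 ⊕ Fin 3) ⊕ Fin 2 → F))).trans E.symm, fun u v => by
        rw [← hE, ← hE u v, LinearEquiv.trans_apply, LinearEquiv.trans_apply, LinearEquiv.trans_apply,
          LinearEquiv.trans_apply, E.apply_symm_apply, E.apply_symm_apply, O.polar_app]⟩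
      map_one' := Subtype.ext (LinearEquiv.ext fun x => E.symm_apply_apply x)
      map_mul' := fun g h => Subtype.ext (LinearEquiv.ext fun x => by simp [mul_app]) }
  refine ⟨(Symplectic.spEquiv 4 F).symm.toMonoidHom.comp f, (Symplectic.spEquiv 4 F).symm.injective.comp ?_⟩
  intro g h e
  refine O.ext_app fun x => E.symm.injective ?_
  have := DFunLike.congr_fun (congrArg Subtype.val e) (E.symm x)
  simpa [f] using this

end Cfsg.Agent.H69.SpecEight
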