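import Cfsg.Agent.H55.FormFactor

/-!
Irreducible factors of the minimal polynomial of a matrix annihilated together with its inverse:
they come in reciprocal orbits, and a self-reciprocal one of degree above one has roots of order
dividing `q ^ e + 1`.
-/

set_option autoImplicit false

namespace Cfsg.Agent.H69.SpecEight

open Polynomial UniqueFactorizationMonoid
open scoped Classical

variable {F : Type*} [Field F]

/-- The monic reciprocal polynomial. -/
noncomputable def rcp (f : F[X]) : F[X] := normalize f.mirror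

theorem irreducible_mirror {f : F[X]} (hf : Irreducible f) : Irreducible f.mirror := by
  refine ⟨fun h => hf.natDegree_pos.ne' ?_, fun a b hab => ?_⟩
  · rw [← mirror_natDegree]; exact natDegree_eq_zero_of_isUnit h
  have e : f = a.mirror * b.mirror := by rw [← mirror_mul_of_domain, ← hab, mirror_mirror]
  have hne := mul_ne_zero_iff.1 (e ▸ hf.ne_zero)
  have unit_of : ∀ c : F[X], c.mirror ≠ 0 → IsUnit c.mirror → IsUnit c := fun c hc hu => by
    refine isUnit_iff_degree_eq_zero.2 ?_
    rw [degree_eq_natDegree (fun h0 => hc (by rw [h0, mirror_zero])), ← mirror_natDegree,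
      natDegree_eq_zero_of_isUnit hu]
    rfl
  exact (hf.isUnit_or_isUnit e).imp (unit_of a hne.1) (unit_of b hne.2)

theorem associated_mirror {f g : F[X]} (h : Associated f g) : Associated f.mirror g.mirror := by
  obtain ⟨u, rfl⟩ := h
  obtain ⟨c, hc, hu⟩ := Polynomial.isUnit_iff.1 u.isUnit
  rw [mirror_mul_of_domain, ← hu, mirror_C]
  exact (associated_mul_unit_right _ _ (isUnit_C.2 hc))

theorem irreducible_rcp {f : F[X]} (hf : Irreducible f) : Irreducible (rcp f) :=
  (normalize_associated _).irreducible_iff.2 (irreducible_mirror hf)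

theorem natDegree_rcp (f : F[X]) : (rcp f).natDegree = f.natDegree := by
  rw [rcp, natDegree_eq_of_degree_eq degree_normalize, mirror_natDegree]

theorem rcp_rcp {f : F[X]} (h : normalize f = f) : rcp (rcp f) = f := by
  conv_rhs => rw [← h, ← mirror_mirror (p := f)]
  exact normalize_eq_normalize_iff_associated.2 (associated_mirror (normalize_associated _))

theorem rcp_X_sub_one : rcp (X - 1 : F[X]) = X - 1 := by
  have hm : (X - 1 : F[X]).Monic := by rw [← C_1]; exact monic_X_sub_C 1
  have h1 : (X - 1 : F[X]) ∣ (X - 1 : F[X]).mirror := by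
    rw [← C_1, dvd_iff_isRoot, IsRoot.def, mirror_eval_one]; simp
  have hi : Irreducible (X - 1 : F[X]) := by rw [← C_1]; exact irreducible_X_sub_C 1
  rw [rcp, ← normalize_eq_normalize_iff_associated.2 (hi.associated_of_dvd (irreducible_mirror hi) h1),
    hm.normalize_eq_self]

/-- Evaluation of the mirror at an element with an inverse. -/
theorem aeval_mirror_eq_zero {S : Type*} [CommRing S] [Algebra F S] {a b : S} (hab : a * b = 1)
    {f : F[X]} (h : aeval b f = 0) : aeval a f.mirror = 0 := by
  letI : Invertible b := ⟨a, hab, by rw [mul_comm, hab]⟩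
  have h' := eval₂_reverse_mul_pow (algebraMap F S) b f
  rw [← aeval_def, ← aeval_def, h] at h'
  have hu : IsUnit (b ^ f.natDegree) := (isUnit_of_invertible b).pow _
  have h0 : aeval a f.reverse = 0 := hu.mul_left_eq_zero.1 h'
  have hm : f.mirror = f.reverse * X ^ f.natTrailingDegree := rfl
  rw [hm, map_mul, h0, zero_mul]

variable {ι : Type*} [Fintype ι] [DecidableEq ι]

/-- The reciprocal of an annihilating polynomial annihilates. -/
theorem aeval_mirror_minpoly {A : Matrix ι ι F} {N : ℕ} (hN : 0 < N) (hA : A ^ N = 1)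
    (hinv : H55.InvClosed A) : aeval A (minpoly F A).mirror = 0 := by
  set S := Algebra.adjoin F ({A} : Set (Matrix ι ι F))
  let a : S := ⟨A, Algebra.self_mem_adjoin_singleton F A⟩
  have hab : a * a ^ (N - 1) = 1 := Subtype.ext (by
    rw [Subalgebra.coe_mul, Subalgebra.coe_pow, Subalgebra.coe_one, ← pow_succ', Nat.sub_add_cancel hN]
    exact hA)
  have hb : aeval (a ^ (N - 1)) (minpoly F A) = 0 := Subtype.ext (by
    rw [Subalgebra.coe_zero, ← Subalgebra.coe_val, ← aeval_algHom_apply, Subalgebra.coe_val, Subalgebra.coe_pow]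
    exact hinv N hN hA _ (minpoly.aeval F A))
  have h := congrArg Subtype.val (aeval_mirror_eq_zero hab hb)
  rw [Subalgebra.coe_zero, ← Subalgebra.coe_val, ← aeval_algHom_apply, Subalgebra.coe_val] at h
  exact h

theorem associated_mirror_minpoly {A : Matrix ι ι F} {N : ℕ} (hN : 0 < N) (hA : A ^ N = 1)
    (hinv : H55.InvClosed A) : Associated (minpoly F A) (minpoly F A).mirror := by
  have h0 : minpoly F A ≠ 0 := minpoly.ne_zero (Matrix.isIntegral A)
  have hd := minpoly.dvd F A (aeval_mirror_minpoly hN hA hinv)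
  refine associated_of_dvd_of_natDegree_le hd ?_ (le_of_eq (mirror_natDegree _))
  exact fun h => h0 (by rw [← mirror_mirror (p := minpoly F A), h, mirror_zero])

/-- The monic irreducible factors, with multiplicity. -/
noncomputable def fac (A : Matrix ι ι F) : Multiset F[X] := normalizedFactors (minpoly F A)

theorem mem_fac {A : Matrix ι ι F} {f : F[X]} (h : f ∈ fac A) :
    Irreducible f ∧ normalize f = f ∧ f ∣ minpoly F A :=
  (mem_normalizedFactors_iff' (minpoly.ne_zero (Matrix.isIntegral A))).1 h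

theorem map_rcp_fac {A : Matrix ι ι F} {N : ℕ} (hN : 0 < N) (hA : A ^ N = 1)
    (hinv : H55.InvClosed A) : (fac A).map rcp = fac A := by
  have h0 : minpoly F A ≠ 0 := minpoly.ne_zero (Matrix.isIntegral A)
  have hprod : ∀ s : Multiset F[X], s.prod.mirror = (s.map mirror).prod := by
    intro s
    induction s using Multiset.induction with
    | empty => rw [Multiset.map_zero, Multiset.prod_zero, ← C_1, mirror_C]
    | cons a t ih => rw [Multiset.prod_cons, mirror_mul_of_domain, ih, Multiset.map_cons, Multiset.prod_cons]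
  have h : Associated ((fac A).map mirror).prod (minpoly F A) := by
    rw [← hprod]
    exact (associated_mirror (prod_normalizedFactors h0)).trans (associated_mirror_minpoly hN hA hinv).symm
  have h' := Associated.normalizedFactors_eq h
  rw [normalizedFactors_prod_eq _ fun a ha => by
    obtain ⟨f, hf, rfl⟩ := Multiset.mem_map.1 ha
    exact irreducible_mirror (mem_fac hf).1, Multiset.map_map] at h'
  exact h'

theorem count_rcp {A : Matrix ι ι F} {N : ℕ} (hN : 0 < N) (hA : A ^ N = 1)
    (hinv : H55.InvClosed A) {f : F[X]} (hf : f ∈ fac A) :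
    (fac A).count (rcp f) = (fac A).count f := by
  conv_lhs => rw [← map_rcp_fac hN hA hinv]
  exact Multiset.count_map_eq_count rcp _ (fun a ha b hb hab => by
    rw [← rcp_rcp (mem_fac ha).2.1, hab, rcp_rcp (mem_fac hb).2.1]) _ hf

variable [Finite F]

/-- Order of a root of a self-reciprocal or paired factor. -/
theorem dvd_torus {A : Matrix ι ι F} {N : ℕ} (hN : 0 < N) (hA : A ^ N = 1) {f : F[X]}
    (hf : f ∈ fac A) (hne : f ≠ X - 1) (h2 : (2 : F) = 0) :
    ∃ e, 0 < e ∧
      ((rcp f = f ∧ f.natDegree = 2 * e ∧ f ∣ X ^ (Nat.card F ^ e + 1) - 1) ∨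
        (rcp f ≠ f ∧ f.natDegree = e ∧ f ∣ X ^ (Nat.card F ^ e - 1) - 1)) := by
  obtain ⟨hfi, hfn, hfμ⟩ := mem_fac hf
  obtain ⟨p', hp'F⟩ := CharP.exists F
  have : Fact p'.Prime := ⟨CharP.char_is_prime F p'⟩
  have : Fact (Irreducible f) := ⟨hfi⟩
  have : Module.Finite F (AdjoinRoot f) := (AdjoinRoot.powerBasis hfi.ne_zero).finite
  have : Finite (AdjoinRoot f) := Module.finite_of_finite F
  have : Fintype (AdjoinRoot f) := Fintype.ofFinite _
  set α := AdjoinRoot.root f with hα
  set d := f.natDegree with hd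
  have hcardK : Nat.card (AdjoinRoot f) = Nat.card F ^ d := by
    rw [Module.natCard_eq_pow_finrank (K := F), (AdjoinRoot.powerBasis hfi.ne_zero).finrank,
      AdjoinRoot.powerBasis_dim]
  have hdvdα : ∀ s : F[X], aeval α s = 0 ↔ f ∣ s := fun s => by
    rw [hα, AdjoinRoot.aeval_eq, AdjoinRoot.mk_eq_zero]
  have key : ∀ j, f ∣ X ^ j - 1 ↔ α ^ j = 1 := fun j => by
    rw [← hdvdα, map_sub, map_pow, aeval_X, map_one, sub_eq_zero]
  have hαN : α ^ N = 1 := (key N).1 (hfμ.trans (minpoly.dvd F A (by simp [hA])))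
  have hα0 : α ≠ 0 := fun h => by rw [h, zero_pow hN.ne'] at hαN; exact zero_ne_one hαN
  have hper : ∀ (x : AdjoinRoot f) (c : ℕ), x ^ (Nat.card F ^ (d * c)) = x := by
    intro x c
    rw [pow_mul, ← hcardK, Nat.card_eq_fintype_card, FiniteField.pow_card_pow]
  by_cases hs : rcp f = f
  swap
  · refine ⟨d, hfi.natDegree_pos, Or.inr ⟨hs, rfl, (key _).2 ?_⟩⟩
    rw [← hcardK, Nat.card_eq_fintype_card, FiniteField.pow_card_sub_one_eq_one α hα0]
  have hfm : aeval α f.mirror = 0 := (hdvdα _).2 (by
    conv_lhs => rw [← hs]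
    exact (normalize_associated f.mirror).dvd)
  set β := α⁻¹ with hβ
  have hαβ : β * α = 1 := inv_mul_cancel₀ hα0
  have hβf : aeval β f = 0 := by
    have := aeval_mirror_eq_zero hαβ hfm
    rwa [mirror_mirror] at this
  let τ : AdjoinRoot f →ₐ[F] AdjoinRoot f := AdjoinRoot.liftAlgHom f (Algebra.ofId F _) β hβf
  have hτ : τ α = β := AdjoinRoot.liftAlgHom_root _ _ _ _
  obtain ⟨i, hi⟩ := FiniteField.exists_forall_apply_eq_pow F p' (AdjoinRoot f)
    (AlgEquiv.ofBijective τ ⟨τ.toRingHom.injective,
      Finite.injective_iff_surjective.1 τ.toRingHom.injective⟩)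
  set ρ := i % d with hρ
  have hβr : β = α ^ (Nat.card F ^ ρ) := by
    rw [← hτ]
    have : τ α = α ^ (Nat.card F ^ i) := hi α
    rw [this, ← Nat.mod_add_div i d, pow_add, pow_mul, hper]
  have hαr : α ^ (Nat.card F ^ ρ + 1) = 1 := by rw [pow_succ, ← hβr, hαβ]
  have hαα : α ^ (Nat.card F ^ (2 * ρ)) = α := by
    rw [two_mul, pow_add, pow_mul, ← hβr, hβ, inv_pow, ← hβr, hβ, inv_inv]
  have hd2r : d ∣ 2 * ρ := hfi.natDegree_dvd_of_dvd_X_pow_card_pow_sub_X ((hdvdα _).1 (by
    rw [map_sub, map_pow, aeval_X, hαα, sub_self]))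
  have hrd : ρ < d := Nat.mod_lt _ hfi.natDegree_pos
  rcases Nat.eq_zero_or_pos ρ with h0 | h0
  · exfalso
    rw [h0, pow_zero] at hαr
    have hα1 : α = 1 := by
      have hh : (α - 1) ^ 2 = 0 := by
        have h2' : (2 : AdjoinRoot f) = 0 := by
          have := congrArg (algebraMap F (AdjoinRoot f)) h2
          rwa [map_ofNat, map_zero] at this
        linear_combination hαr - (α - 1) * h2'
      exact sub_eq_zero.1 ((pow_eq_zero_iff two_ne_zero).1 hh)
    have hm : (X - 1 : F[X]).Monic := by rw [← C_1]; exact monic_X_sub_C 1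
    have hd1 : f ∣ X - 1 := (hdvdα _).1 (by rw [map_sub, aeval_X, map_one, hα1, sub_self])
    refine hne ?_
    rw [← hfn, ← hm.normalize_eq_self]
    exact normalize_eq_normalize_iff_associated.2 (hfi.associated_of_dvd (by rw [← C_1]; exact irreducible_X_sub_C 1) hd1)
  · refine ⟨ρ, h0, Or.inl ⟨hs, ?_, (key _).2 hαr⟩⟩
    obtain ⟨c, hc⟩ := hd2r
    rcases c with _ | _ | c
    · omega
    · omega
    · rw [Nat.mul_succ, Nat.mul_succ] at hc; omega

end Cfsg.Agent.H69.SpecEight
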