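import Cfsg.Agent.Orthogonal.Elliptic

/-!
Element orders in orthogonal groups: transport, orthogonal sums, and unipotent elements built
from Siegel transformations (characteristic two).
-/

set_option autoImplicit false

namespace Cfsg.Agent.H69.SpecEight

open QuadraticMap Module Cfsg.Agent.Orthogonal

variable {F : Type*} [Field F] {V V' : Type*} [AddCommGroup V] [Module F V]
  [AddCommGroup V'] [Module F V'] {Q : QuadraticForm F V} {Q' : QuadraticForm F V'}

/-- `n` divides the order of some isometry. -/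
def Real (Q : QuadraticForm F V) (n : ℕ) : Prop := ∃ g : O Q, n ∣ orderOf g

theorem Real.of_dvd {m n : ℕ} (h : Real Q m) (hd : n ∣ m) : Real Q n :=
  let ⟨g, hg⟩ := h; ⟨g, hd.trans hg⟩

theorem exists_equiv_of_isometry [FiniteDimensional F V] [FiniteDimensional F V'] (L : V →ₗ[F] V')
    (hL : ∀ x, Q' (L x) = Q x) (hQ : Nondeg Q) (hd : finrank F V = finrank F V') :
    ∃ E : V ≃ₗ[F] V', ∀ x, Q' (E x) = Q x := by
  have hinj : Function.Injective L := by
    rw [← LinearMap.ker_eq_bot, LinearMap.ker_eq_bot']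
    intro x hx
    refine hQ x fun y => ?_
    simp only [QuadraticMap.polar, ← hL, map_add, hx, zero_add, QuadraticMap.map_zero, sub_zero, sub_self]
  exact ⟨LinearEquiv.ofBijective L ⟨hinj, (LinearMap.injective_iff_surjective_of_finrank_eq_finrank hd).1 hinj⟩, hL⟩

/-- Pull an element back along an isometry of spaces of equal dimension. -/
theorem Real.of_iso [FiniteDimensional F V] [FiniteDimensional F V'] {n : ℕ} (L : V →ₗ[F] V')
    (hL : ∀ x, Q' (L x) = Q x) (hQ : Nondeg Q) (hd : finrank F V = finrank F V')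
    (h : Real Q' n) : Real Q n := by
  obtain ⟨E, hE⟩ := exists_equiv_of_isometry L hL hQ hd
  obtain ⟨g, hg⟩ := h
  exact ⟨(congrO E hE).symm g, by rwa [MulEquiv.orderOf_eq]⟩

/-- Isometries of the factors act on an orthogonal sum. -/
def prodO (Q : QuadraticForm F V) (Q' : QuadraticForm F V') : O Q × O Q' →* O (Q.prod Q') where
  toFun g := ⟨LinearEquiv.prodCongr (g.1 : V ≃ₗ[F] V) (g.2 : V' ≃ₗ[F] V'), fun x => by
    simp only [QuadraticMap.prod_apply, LinearEquiv.prodCongr_apply, O.map_app]⟩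
  map_one' := O.ext_app fun x => rfl
  map_mul' _ _ := O.ext_app fun x => rfl

theorem prodO_app (g : O Q × O Q') (x : V × V') :
    (prodO Q Q' g : (V × V') ≃ₗ[F] (V × V')) x =
      ((g.1 : V ≃ₗ[F] V) x.1, (g.2 : V' ≃ₗ[F] V') x.2) := rfl

theorem prodO_injective : Function.Injective (prodO Q Q') := fun g h e =>
  Prod.ext
    (O.ext_app fun x => congrArg Prod.fst
      (DFunLike.congr_fun (congrArg Subtype.val e) ((x, 0) : V × V') :))
    (O.ext_app fun x => congrArg Prod.snd
      (DFunLike.congr_fun (congrArg Subtype.val e) ((0, x) : V × V') :))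

theorem Real.prod {m n : ℕ} (h : Real Q m) (h' : Real Q' n) : Real (Q.prod Q') (Nat.lcm m n) := by
  obtain ⟨g, hg⟩ := h
  obtain ⟨g', hg'⟩ := h'
  refine ⟨prodO Q Q' (g, g'), ?_⟩
  rw [orderOf_injective _ prodO_injective, Prod.orderOf]
  exact Nat.lcm_dvd (hg.trans (Nat.dvd_lcm_left _ _)) (hg'.trans (Nat.dvd_lcm_right _ _))

theorem Real.prod_mul {m n : ℕ} (h : Real Q m) (h' : Real Q' n) (hmn : Nat.Coprime m n) :
    Real (Q.prod Q') (m * n) := hmn.lcm_eq_mul ▸ h.prod h'

/-- The hyperbolic plane. -/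
def hyp (F : Type*) [Field F] : QuadraticForm F (F × F) :=
  QuadraticMap.linMulLin (LinearMap.fst F F F) (LinearMap.snd F F F)

theorem hyp_apply (v : F × F) : hyp F v = v.1 * v.2 := rfl

theorem real_hyp_torus [Finite F] : Real (hyp F) (Nat.card F - 1) := by
  obtain ⟨c, hc⟩ := IsCyclic.exists_ofOrder_eq_natCard (α := Fˣ)
  let f : Fˣ →* O (hyp F) :=
    { toFun := fun c => ⟨LinearEquiv.prodCongr (LinearEquiv.smulOfUnit c) (LinearEquiv.smulOfUnit c⁻¹),
        fun v => by
          show (c : F) * v.1 * (((c⁻¹ : Fˣ) : F) * v.2) = v.1 * v.2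
          rw [Units.val_inv_eq_inv_val]
          field_simp⟩
      map_one' := O.ext_app fun v => Prod.ext (one_mul _) (by
        show ((1⁻¹ : Fˣ) : F) * v.2 = v.2
        rw [inv_one, Units.val_one, one_mul])
      map_mul' := fun a b => O.ext_app fun v => Prod.ext
        (by show ((a * b : Fˣ) : F) * v.1 = (a : F) * ((b : F) * v.1); rw [Units.val_mul, mul_assoc])
        (by show (((a * b)⁻¹ : Fˣ) : F) * v.2 = ((a⁻¹ : Fˣ) : F) * (((b⁻¹ : Fˣ) : F) * v.2)
            rw [mul_inv, Units.val_mul, mul_assoc]) }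
  have hf : Function.Injective f := fun a b e => Units.ext (by
    have h : (a : F) * 1 = (b : F) * 1 :=
      congrArg Prod.fst (DFunLike.congr_fun (congrArg Subtype.val e) ((1, 0) : F × F) :)
    rwa [mul_one, mul_one] at h)
  refine ⟨f c, ?_⟩
  rw [orderOf_injective f hf, hc, Nat.card_units]

theorem real_hyp_swap : Real (hyp F) 2 := by
  haveI : Fact (Nat.Prime 2) := ⟨Nat.prime_two⟩
  refine ⟨⟨LinearEquiv.prodComm F F F, fun v => mul_comm _ _⟩, ?_⟩
  rw [orderOf_eq_prime (p := 2)]
  · exact O.ext_app fun v => rfl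
  · intro h
    have := congrArg Prod.fst (DFunLike.congr_fun (congrArg Subtype.val h) ((1, 0) : F × F) :)
    exact zero_ne_one this

/-! ### Siegel transformations -/

variable (h2 : (2 : F) = 0) {W : Type*} [AddCommGroup W] [Module F W] (R : QuadraticForm F W)

/-- The Siegel map of a hyperbolic pair and `u`. -/
def eLin (u : W) : (F × F) × W →ₗ[F] (F × F) × W where
  toFun v := ((v.1.1 + polar R v.2 u + v.1.2 * R u, v.1.2), v.2 + v.1.2 • u)
  map_add' v w := by
    simp only [Prod.fst_add, Prod.snd_add, QuadraticMap.polar_add_left, Prod.mk_add_mk, add_smul]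
    refine Prod.ext (Prod.ext ?_ rfl) ?_
    · show _ = _; ring
    · show _ = _; abel_nf
  map_smul' c v := by
    simp only [Prod.smul_fst, Prod.smul_snd, polar_smul_left', smul_eq_mul, RingHom.id_apply,
      Prod.smul_mk, smul_add, smul_smul]
    refine Prod.ext (Prod.ext ?_ rfl) rfl
    show _ = _; ring

theorem eLin_apply (u : W) (v : (F × F) × W) :
    eLin R u v = ((v.1.1 + polar R v.2 u + v.1.2 * R u, v.1.2), v.2 + v.1.2 • u) := rfl

theorem eLin_add (u w : W) (v : (F × F) × W) : eLin R u (eLin R w v) = eLin R (u + w) v := by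
  simp only [eLin_apply, QuadraticMap.polar_add_left, polar_smul_left', map_add_polar (Q := R) u w,
    QuadraticMap.polar_add_right, polar_comm (⇑R) w u, smul_add]
  refine Prod.ext (Prod.ext ?_ rfl) ?_
  · show _ = _; ring
  · show _ = _; abel_nf

include h2 in
theorem add_self_eq_zero' (u : W) : u + u = 0 := by
  rw [← two_smul F u, h2, zero_smul]

/-- Siegel transformation as an isometry. -/
def eO (u : W) : O ((hyp F).prod R) :=
  ⟨LinearEquiv.ofLinearMap (eLin R u) (eLin R u)
    (LinearMap.ext fun v => by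
      show eLin R u (eLin R u v) = v
      rw [eLin_add, add_self_eq_zero' h2 u, eLin_apply]
      simp)
    (LinearMap.ext fun v => by
      show eLin R u (eLin R u v) = v
      rw [eLin_add, add_self_eq_zero' h2 u, eLin_apply]
      simp), fun v => by
    show (hyp F).prod R (eLin R u v) = _
    simp only [QuadraticMap.prod_apply, hyp_apply, eLin_apply, map_add_polar (Q := R) v.2,
      polar_smul_right', qmap_smul]
    linear_combination (v.1.2 * polar R v.2 u + v.1.2 ^ 2 * R u) * h2⟩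

theorem eO_app (u : W) (v : (F × F) × W) :
    (eO h2 R u : ((F × F) × W) ≃ₗ[F] ((F × F) × W)) v =
      ((v.1.1 + polar R v.2 u + v.1.2 * R u, v.1.2), v.2 + v.1.2 • u) := rfl

theorem eO_mul (u w : W) : eO h2 R u * eO h2 R w = eO h2 R (u + w) :=
  O.ext_app fun v => eLin_add R u w v

theorem eO_zero : eO h2 R (0 : W) = 1 :=
  O.ext_app fun v => by
    show eLin R 0 v = v
    simp [eLin_apply]

variable {R}

/-- An isometry of `W` extended to `hyp ⊕ W`. -/
def liftO (h : O R) : O ((hyp F).prod R) := prodO (hyp F) R (1, h)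

/-- `eO u` followed after `liftO h`. -/
def extO (u : W) (h : O R) : O ((hyp F).prod R) := eO h2 R u * liftO h

theorem extO_app (u : W) (h : O R) (v : (F × F) × W) :
    (extO h2 u h : ((F × F) × W) ≃ₗ[F] ((F × F) × W)) v =
      ((v.1.1 + polar R ((h : W ≃ₗ[F] W) v.2) u + v.1.2 * R u, v.1.2),
        (h : W ≃ₗ[F] W) v.2 + v.1.2 • u) := rfl

theorem liftO_mul_eO (u : W) (h : O R) :
    liftO h * eO h2 R u = eO h2 R ((h : W ≃ₗ[F] W) u) * liftO h := by
  refine O.ext_app fun v => ?_
  show ((v.1.1 + polar R v.2 u + v.1.2 * R u, v.1.2), (h : W ≃ₗ[F] W) (v.2 + v.1.2 • u)) =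
    ((v.1.1 + polar R ((h : W ≃ₗ[F] W) v.2) ((h : W ≃ₗ[F] W) u) + v.1.2 * R ((h : W ≃ₗ[F] W) u),
      v.1.2), (h : W ≃ₗ[F] W) v.2 + v.1.2 • (h : W ≃ₗ[F] W) u)
  rw [O.polar_app, O.map_app, map_add, map_smul]

/-- Powers of `extO`. -/
theorem extO_pow (u : W) (h : O R) (n : ℕ) :
    extO h2 u h ^ n = eO h2 R (∑ i ∈ Finset.range n, ((h ^ i : O R) : W ≃ₗ[F] W) u) * liftO (h ^ n) := by
  have hl : ∀ a b : O R, liftO a * liftO b = liftO (a * b) := fun a b => by
    rw [liftO, liftO, liftO, ← map_mul, Prod.mk_mul_mk, one_mul]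
  induction n with
  | zero =>
    rw [pow_zero, Finset.sum_range_zero, eO_zero, one_mul, pow_zero, liftO]
    exact (map_one (prodO (hyp F) R)).symm
  | succ n ih =>
    rw [pow_succ, ih, extO, Finset.sum_range_succ, ← eO_mul, pow_succ, ← hl]
    rw [mul_assoc (eO h2 R _) (liftO (h ^ n)), ← mul_assoc (liftO (h ^ n)), liftO_mul_eO]
    simp only [mul_assoc]

theorem orderOf_extO (u : W) (h : O R) (k : ℕ) (hk : h ^ 2 ^ k = 1)
    (hs : ∑ i ∈ Finset.range (2 ^ k), ((h ^ i : O R) : W ≃ₗ[F] W) u ≠ 0) :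
    orderOf (extO h2 u h) = 2 ^ (k + 1) := by
  set S := ∑ i ∈ Finset.range (2 ^ k), ((h ^ i : O R) : W ≃ₗ[F] W) u
  have h1 : extO h2 u h ^ 2 ^ k = eO h2 R S := by
    rw [extO_pow, hk, show liftO (1 : O R) = 1 from map_one (prodO (hyp F) R), mul_one]
  haveI : Fact (Nat.Prime 2) := ⟨Nat.prime_two⟩
  refine orderOf_eq_prime_pow (fun he => hs ?_) ?_
  · rw [h1] at he
    have := congrArg Prod.snd (DFunLike.congr_fun (congrArg Subtype.val he) (((0, 1), 0) : (F × F) × W) :)
    have this' : (0 : W) + (1 : F) • S = 0 := this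
    rwa [zero_add, one_smul] at this'
  · rw [pow_succ, pow_mul, h1, pow_two, eO_mul, add_self_eq_zero' h2, eO_zero]

include h2 in
theorem sum_four (u : W) (h : O R) :
    ∑ i ∈ Finset.range 4, ((h ^ i : O R) : W ≃ₗ[F] W) u =
      u + (h : W ≃ₗ[F] W) u + (h : W ≃ₗ[F] W) ((h : W ≃ₗ[F] W) u) +
        (h : W ≃ₗ[F] W) ((h : W ≃ₗ[F] W) ((h : W ≃ₗ[F] W) u)) := by
  simp only [Finset.sum_range_succ, Finset.sum_range_zero, zero_add, pow_succ', pow_zero, mul_one,
    Subgroup.coe_mul, mul_app, Subgroup.coe_one, one_app]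

end Cfsg.Agent.H69.SpecEight
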