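import Cfsg.Agent.H69.SpecEight.Main
import Cfsg.Agent.H69.SpecEight.Affine

/-!
In `V^k ⋊ Ω₈⁻(q)`, `q` even, every maximal element order of `Sp₈(q)` is attained.
-/

set_option autoImplicit false

namespace Cfsg.Agent.H69.SpecEight

open QuadraticMap Module Cfsg.Agent.Orthogonal

variable {F : Type*} [Field F] [Finite F] [CharP F 2]

local notation "V8" => ((Fin 3 ⊕ Fin 3) ⊕ Fin 2 → F)
local notation "W0" => ((Fin 0 ⊕ Fin 0) ⊕ Fin 2 → F)

omit [Finite F] in
theorem sign_eq_one {G : Type*} [Group G] (D : G →* ℤˣ) {x : G} {m : ℕ} (hm : Odd m) (hx : x ^ m = 1) :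
    D x = 1 := by
  rcases Int.units_eq_one_or (D x) with h | h
  · exact h
  · have := congrArg D hx
    rw [map_pow, h, map_one, hm.neg_one_pow] at this
    exact absurd this (by decide)

theorem finite_O' {V : Type*} [AddCommGroup V] [Module F V] [Finite V] (Q : QuadraticForm F V) :
    Finite (O Q) :=
  Finite.of_injective (fun g x => (g : V ≃ₗ[F] V) x) fun _ _ h => O.ext_app fun x => _root_.congr_fun h x

theorem Real.exists_exact {V : Type*} [AddCommGroup V] [Module F V] [Finite V] {Q : QuadraticForm F V}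
    {n : ℕ} (h : Real Q n) (hn : n ≠ 0) : ∃ g : O Q, orderOf g = n := by
  haveI := finite_O' Q
  obtain ⟨g, hg⟩ := h
  refine ⟨g ^ (orderOf g / n), ?_⟩
  rw [orderOf_pow_of_dvd (Nat.div_ne_zero_iff.2 ⟨hn, Nat.le_of_dvd (orderOf_pos g) hg⟩)
    (Nat.div_dvd_of_dvd hg), Nat.div_div_self hg (orderOf_pos g).ne']

omit [CharP F 2] in
/-- Push an element forward along an isometry of spaces of equal dimension. -/
theorem Real.push {V V' : Type*} [AddCommGroup V] [Module F V] [AddCommGroup V'] [Module F V']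
    [FiniteDimensional F V] [FiniteDimensional F V'] {Q : QuadraticForm F V} {Q' : QuadraticForm F V'}
    {n : ℕ} (L : V →ₗ[F] V') (hL : ∀ x, Q' (L x) = Q x) (hQ : Nondeg Q)
    (hd : finrank F V = finrank F V') (h : Real Q n) : Real Q' n := by
  obtain ⟨E, hE⟩ := exists_equiv_of_isometry L hL hQ hd
  obtain ⟨g, hg⟩ := h
  exact ⟨congrO E hE g, by rwa [MulEquiv.orderOf_eq]⟩

omit [Finite F] in
/-- Orbit sums over several periods. -/
theorem sum_periods {V : Type*} [AddCommGroup V] [Module F V] {Q : QuadraticForm F V} (u : O Q)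
    {n : ℕ} (hu : u ^ n = 1) (v : V) (m : ℕ) :
    ∑ i ∈ Finset.range (n * m), ((u ^ i : O Q) : V ≃ₗ[F] V) v =
      m • ∑ i ∈ Finset.range n, ((u ^ i : O Q) : V ≃ₗ[F] V) v := by
  induction m with
  | zero => simp
  | succ m ih =>
    rw [Nat.mul_succ, Finset.sum_range_add, ih, succ_nsmul]
    congr 1
    exact Finset.sum_congr rfl fun i _ => by rw [pow_add, pow_mul, hu, one_pow, one_mul]

/-- An element of the Dickson kernel of order `n` with a non-vanishing orbit sum. -/
def Wit (a b : F) (n : ℕ) : Prop :=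
  ∃ g : O (formMinus F 3 a b), dicksonSign g = 1 ∧ orderOf g = n ∧
    ∃ v : V8, ∑ i ∈ Finset.range n, ((g ^ i : O (formMinus F 3 a b)) : V8 ≃ₗ[F] V8) v ≠ 0

variable {a b : F} (hab : ∀ z₁ z₂ : F, z₁ ^ 2 + a * z₁ * z₂ + b * z₂ ^ 2 = 0 → z₁ = 0 ∧ z₂ = 0)

/-- The Dickson homomorphism of the eight-dimensional minus form. -/
noncomputable def dick : O (formMinus F 3 a b) →* ℤˣ :=
  dickson (formMinus_nondeg 3 hab) (reflGroup_top hab)

variable {V₁ V₂ : Type*} [AddCommGroup V₁] [Module F V₁] [Finite V₁] [AddCommGroup V₂] [Module F V₂]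
  [Finite V₂] {Q₁ : QuadraticForm F V₁} {Q₂ : QuadraticForm F V₂}

include hab in
theorem wit_of_sum (E : V8 ≃ₗ[F] V₁ × V₂) (hE : ∀ x, (Q₁.prod Q₂) (E x) = formMinus F 3 a b x)
    {m n : ℕ} (hm : Odd m) (hs : Real Q₁ m) (u : O Q₂) (hu : orderOf u = n) (hmn : Nat.Coprime m n)
    (hD : dick hab ((congrO E hE).symm (prodO Q₁ Q₂ (1, u))) = 1)
    {v : V₂} (hv : ∑ i ∈ Finset.range n, ((u ^ i : O Q₂) : V₂ ≃ₗ[F] V₂) v ≠ 0) : Wit a b (m * n) := by
  obtain ⟨s, hs'⟩ := hs.exists_exact hm.pos.ne'
  set Φ := (congrO E hE).symm.toMonoidHom.comp (prodO Q₁ Q₂) with hΦ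
  have hinj : Function.Injective Φ := (congrO E hE).symm.injective.comp prodO_injective
  refine ⟨Φ (s, u), ?_, ?_, E.symm ((0 : V₁), v), ?_⟩
  · show dick hab (Φ (s, u)) = 1
    rw [show (s, u) = (s, (1 : O Q₂)) * ((1 : O Q₁), u) by simp, map_mul, map_mul,
      sign_eq_one (dick hab) hm (x := Φ (s, 1)) (by rw [← map_pow, Prod.pow_mk, ← hs', pow_orderOf_eq_one, one_pow]; exact map_one Φ),
      one_mul]
    exact hD
  · rw [orderOf_injective Φ hinj, Prod.orderOf, hs', hu, hmn.lcm_eq_mul]
  · have happ : ∀ (p : O Q₁ × O Q₂) (w : V₁ × V₂), ((Φ p : O (formMinus F 3 a b)) : V8 ≃ₗ[F] V8) (E.symm w) =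
        E.symm (((p.1 : O Q₁) : V₁ ≃ₗ[F] V₁) w.1, ((p.2 : O Q₂) : V₂ ≃ₗ[F] V₂) w.2) := fun p w => by
      show E.symm ((prodO Q₁ Q₂ p : (V₁ × V₂) ≃ₗ[F] (V₁ × V₂)) (E (E.symm w))) = _
      rw [E.apply_symm_apply, prodO_app]
    simp only [← map_pow Φ, happ, Prod.pow_mk, map_zero, ← map_sum]
    intro e
    have := congrArg Prod.snd (E.symm.map_eq_zero_iff.1 e)
    rw [Prod.snd_sum, Prod.snd_zero, mul_comm, sum_periods u (hu ▸ pow_orderOf_eq_one u)] at this
    obtain ⟨r, rfl⟩ := hm
    rw [add_nsmul, one_nsmul, mul_nsmul', two_nsmul, add_self_eq_zero' (two_eq_zero' (F := F)),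
      zero_add] at this
    exact hv this

omit [Finite F] [CharP F 2] [Finite V₁] [Finite V₂] in
include hab in
theorem hD_square [Finite F] [CharP F 2] (E : V8 ≃ₗ[F] V₁ × V₂)
    (hE : ∀ x, (Q₁.prod Q₂) (E x) = formMinus F 3 a b x) (h : O Q₂) :
    dick hab ((congrO E hE).symm (prodO Q₁ Q₂ (1, h * h))) = 1 := by
  rw [show ((1 : O Q₁), h * h) = (1, h) * (1, h) by simp, map_mul, map_mul, map_mul]
  rcases Int.units_eq_one_or (dick hab ((congrO E hE).symm (prodO Q₁ Q₂ (1, h)))) with e | e <;> rw [e] <;> decide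

include hab in
/-- The fixed-vector case. -/
theorem wit_fixed (E : V8 ≃ₗ[F] V₁ × V₂) (hE : ∀ x, (Q₁.prod Q₂) (E x) = formMinus F 3 a b x)
    {m : ℕ} (hm : Odd m) (hs : Real Q₁ m) {v : V₂} (hv : v ≠ 0) : Wit a b m := by
  have h := wit_of_sum hab E hE hm hs (1 : O Q₂) orderOf_one (Nat.coprime_one_right m)
    (by rw [show ((1 : O Q₁), (1 : O Q₂)) = 1 from rfl, map_one, map_one, map_one]) (v := v)
    (by simpa using hv)
  rwa [mul_one] at h

/-- Pairs and plane coordinates of the eight-dimensional space. -/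
def coord (v : V8) (i : Fin 3) : F × F := (v (.inl (.inl i)), v (.inl (.inr i)))

/-- The anisotropic coordinates. -/
def planeC (v : V8) : W0 := Sum.elim 0 (fun j => v (.inr j))

omit [Finite F] [CharP F 2] in
theorem form_coord (a b : F) (v : V8) :
    formMinus F 3 a b v = hyp F (coord v 0) + hyp F (coord v 1) + hyp F (coord v 2) +
      formMinus F 0 a b (planeC v) := by
  simp [formMinus_coe, Cfsg.quadFormMinus, hyp_apply, coord, planeC, Fin.sum_univ_three]

omit [Finite F] [CharP F 2] in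
theorem coord_add (v w : V8) (i : Fin 3) : coord (v + w) i = coord v i + coord w i := rfl

omit [Finite F] [CharP F 2] in
theorem coord_smul (c : F) (v : V8) (i : Fin 3) : coord (c • v) i = c • coord v i := rfl

omit [Finite F] [CharP F 2] in
theorem planeC_add (v w : V8) : planeC (v + w) = planeC v + planeC w := by
  funext s; rcases s with s | j
  · simp [planeC]
  · rfl

omit [Finite F] [CharP F 2] in
theorem planeC_smul (c : F) (v : V8) : planeC (c • v) = c • planeC v := by
  funext s; rcases s with s | j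
  · simp [planeC]
  · rfl

include hab in
theorem exists_layout {V' : Type*} [AddCommGroup V'] [Module F V'] [FiniteDimensional F V']
    (Q' : QuadraticForm F V') (f : V8 → V') (hadd : ∀ v w, f (v + w) = f v + f w)
    (hsmul : ∀ (c : F) v, f (c • v) = c • f v) (hf : ∀ v, Q' (f v) = formMinus F 3 a b v)
    (hd : finrank F V' = 8) : ∃ E : V8 ≃ₗ[F] V', ∀ x, Q' (E x) = formMinus F 3 a b x :=
  exists_equiv_of_isometry { toFun := f, map_add' := hadd, map_smul' := hsmul } hf
    (formMinus_nondeg 3 hab) (by rw [finrank_formMinus, hd])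

omit [Finite F] [CharP F 2] in
theorem finrank_plane : finrank F W0 = 2 := by rw [finrank_formMinus]

include hab in
/-- The twelve bounds are attained up to doubling by a translation. -/
theorem exists_witness {N : ℕ} (hN : N ∈ bounds (Nat.card F)) :
    (Odd N ∧ ∃ g : O (formMinus F 3 a b), dicksonSign g = 1 ∧ orderOf g = N) ∨
      ∃ n, N = 2 * n ∧ Wit a b n := by
  classical
  haveI : Fintype F := Fintype.ofFinite F
  set q := Nat.card F with hq
  have hev : Even q := by
    rw [even_iff_two_dvd]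
    exact (CharP.cast_eq_zero_iff F 2 q).1 (by rw [hq, Nat.card_eq_fintype_card]; simp)
  have hq2 : 2 ≤ q := Finite.one_lt_card
  have oddp : ∀ k, k ≠ 0 → Odd (q ^ k + 1) := fun k hk => (hev.pow_of_ne_zero hk).add_one
  have oddm : ∀ k, k ≠ 0 → Odd (q ^ k - 1) := fun k hk => by
    have := hev.pow_of_ne_zero hk
    have : 0 < q ^ k := by positivity
    rw [Nat.even_iff] at *; rw [Nat.odd_iff]; omega
  have o1p : Odd (q + 1) := by simpa using oddp 1 one_ne_zero
  have o1m : Odd (q - 1) := by simpa using oddm 1 one_ne_zero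
  have e21 : (q + 1) * (q - 1) = q ^ 2 - 1 := by rw [← Nat.sq_sub_sq, one_pow]
  have cp : Nat.Coprime (q ^ 2 + 1) (q + 1) := coprime_of_dvd_pow hev two_ne_zero (e21 ▸ dvd_mul_right _ _)
  have cm : Nat.Coprime (q ^ 2 + 1) (q - 1) := coprime_of_dvd_pow hev two_ne_zero (e21 ▸ dvd_mul_left _ _)
  have c2 : ∀ {m : ℕ}, Odd m → ∀ k, Nat.Coprime m (2 ^ k) := fun h k =>
    (Nat.coprime_two_right.2 h).pow_right k
  -- tori on the coordinate pieces
  have p0 : Real (formMinus F 0 a b) (q + 1) := real_minus_plane hab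
  have hh : Real (hyp F) (q - 1) := real_hyp_torus
  have m1 : Real ((hyp F).prod (formMinus F 0 a b)) (q ^ 2 + 1) :=
    Real.push (splitMinus F 0) (splitMinus_apply 0 a b) (formMinus_nondeg 1 hab)
      (by rw [finrank_formMinus, Module.finrank_prod, finrank_pair, finrank_formMinus])
      (real_minus_torus hab 1 le_rfl)
  have m2 : Real ((hyp F).prod ((hyp F).prod (formMinus F 0 a b))) (q ^ 3 + 1) :=
    Real.push ((LinearMap.prodMap LinearMap.id (splitMinus F 0)).comp (splitMinus F 1))
      (fun v => by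
        rw [← splitMinus_apply 1 a b v]
        simp only [LinearMap.comp_apply, LinearMap.prodMap_apply, LinearMap.id_apply,
          QuadraticMap.prod_apply, ← splitMinus_apply 0 a b])
      (formMinus_nondeg 2 hab)
      (by rw [finrank_formMinus]; simp [finrank_plane])
      (real_minus_torus hab 2 (by norm_num))
  have p2 : Real ((hyp F).prod (hyp F)) (q ^ 2 - 1) := by
    let L : (Fin 2 ⊕ Fin 2 → F) →ₗ[F] (F × F) × (F × F) :=
      { toFun := fun v => ((v (.inl 0), v (.inr 0)), (v (.inl 1), v (.inr 1)))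
        map_add' := fun _ _ => rfl
        map_smul' := fun _ _ => rfl }
    refine Real.push L (fun v => ?_) (formPlus_nondeg F 2) (by rw [finrank_formPlus]; simp)
      (real_plus_torus 2 (by norm_num))
    simp [L, QuadraticMap.prod_apply, hyp_apply, formPlus_coe, Cfsg.quadFormPlus, Fin.sum_univ_two]
  have p3 : Real ((hyp F).prod ((hyp F).prod (hyp F))) (q ^ 3 - 1) := by
    let L : (Fin 3 ⊕ Fin 3 → F) →ₗ[F] (F × F) × ((F × F) × (F × F)) :=
      { toFun := fun v => ((v (.inl 0), v (.inr 0)), ((v (.inl 1), v (.inr 1)), (v (.inl 2), v (.inr 2))))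
        map_add' := fun _ _ => rfl
        map_smul' := fun _ _ => rfl }
    refine Real.push L (fun v => ?_) (formPlus_nondeg F 3) (by rw [finrank_formPlus]; simp)
      (real_plus_torus 3 (by norm_num))
    simp [L, QuadraticMap.prod_apply, hyp_apply, formPlus_coe, Cfsg.quadFormPlus, Fin.sum_univ_three]
    ring
  have odd_case : ∀ {n : ℕ}, Odd n → n ∈ bounds q →
      Odd n ∧ ∃ g : O (formMinus F 3 a b), dicksonSign g = 1 ∧ orderOf g = n := fun {n} ho hn => by
    obtain ⟨g, hg⟩ := (real_bounds hab hn).exists_exact ho.pos.ne'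
    exact ⟨ho, g, sign_eq_one (dick hab) ho (hg ▸ pow_orderOf_eq_one g), hg⟩
  have hv0 : ((1, 0) : F × F) ≠ 0 := fun e => one_ne_zero (congrArg Prod.fst e)
  have hu0 : ellV (1 : F) 0 ≠ 0 := fun e => one_ne_zero (congrArg ellX e)
  simp only [bounds, List.mem_cons, List.not_mem_nil, or_false] at hN
  rcases hN with rfl | rfl | rfl | rfl | rfl | rfl | rfl | rfl | rfl | rfl | rfl | rfl
  · exact Or.inl (odd_case (oddp 4 (by norm_num)) (by simp [bounds]))
  · exact Or.inl (odd_case (oddm 4 (by norm_num)) (by simp [bounds]))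
  · exact Or.inl (odd_case ((oddp 3 (by norm_num)).mul o1m) (by simp [bounds]))
  · exact Or.inl (odd_case ((oddm 3 (by norm_num)).mul o1p) (by simp [bounds]))
  · obtain ⟨E, hE⟩ := exists_layout hab (((hyp F).prod ((hyp F).prod (formMinus F 0 a b))).prod (hyp F))
      (fun v => ((coord v 0, (coord v 1, planeC v)), coord v 2))
      (fun v w => by simp [coord_add, planeC_add]) (fun c v => by simp [coord_smul, planeC_smul])
      (fun v => by rw [form_coord]; simp only [QuadraticMap.prod_apply]; ring)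
      (by simp [finrank_plane])
    exact Or.inr ⟨q ^ 3 + 1, mul_comm _ _, wit_fixed hab E hE (oddp 3 (by norm_num)) m2 hv0⟩
  · obtain ⟨E, hE⟩ := exists_layout hab (((hyp F).prod ((hyp F).prod (hyp F))).prod (formMinus F 0 a b))
      (fun v => ((coord v 0, (coord v 1, coord v 2)), planeC v))
      (fun v w => by simp [coord_add, planeC_add]) (fun c v => by simp [coord_smul, planeC_smul])
      (fun v => by rw [form_coord]; simp only [QuadraticMap.prod_apply]; ring)
      (by simp [finrank_plane])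
    exact Or.inr ⟨q ^ 3 - 1, mul_comm _ _, wit_fixed hab E hE (oddm 3 (by norm_num)) p3 hu0⟩
  · -- two planes from two hyperbolic pairs
    have ha := coeff_ne_zero hab
    have h2 : (2 : F) = 0 := two_eq_zero'
    obtain ⟨E, hE⟩ := exists_layout hab
      ((((hyp F).prod (formMinus F 0 a b)).prod (formMinus F 0 a b)).prod (formMinus F 0 a b))
      (fun v => (((coord v 2, planeC v),
        ellV ((coord v 0).1 + b / a ^ 2 * (coord v 0).2)
          ((coord v 1).1 + (a ^ 2)⁻¹ * (coord v 1).2 + a⁻¹ * (coord v 0).2)),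
        ellV ((coord v 0).1 + b / a ^ 2 * (coord v 0).2 + a⁻¹ * (coord v 1).2)
          ((coord v 1).1 + (a ^ 2)⁻¹ * (coord v 1).2)))
      (fun v w => by
        simp only [coord_add, planeC_add, Prod.fst_add, Prod.snd_add, Prod.mk_add_mk]
        refine Prod.ext (Prod.ext rfl (ell_ext ?_ ?_)) (ell_ext ?_ ?_) <;>
          simp [ellX, ellY, ellV] <;> ring)
      (fun c v => by
        simp only [coord_smul, planeC_smul, Prod.smul_fst, Prod.smul_snd, Prod.smul_mk]
        refine Prod.ext (Prod.ext rfl (ell_ext ?_ ?_)) (ell_ext ?_ ?_) <;>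
          simp [ellX, ellY, ellV] <;> ring)
      (fun v => by
        rw [form_coord]
        simp only [QuadraticMap.prod_apply, formMinus_zero_apply, hyp_apply, ellX_mk, ellY_mk]
        set x1 := (coord v 0).1
        set y1 := (coord v 0).2
        set x2 := (coord v 1).1
        set y2 := (coord v 1).2
        have ha' : a * a⁻¹ = 1 := mul_inv_cancel₀ ha
        set p := x1 + b / a ^ 2 * y1 with hp
        set r := x2 + (a ^ 2)⁻¹ * y2 with hr
        rw [div_eq_mul_inv, ← inv_pow] at hp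
        rw [← inv_pow] at hr
        linear_combination (p ^ 2 + a * p * r + b * r ^ 2 + p * y2 * a⁻¹ + b * r * y1 * a⁻¹ +
            y2 ^ 2 * a⁻¹ ^ 2 + b * y1 ^ 2 * a⁻¹ ^ 2) * h2 + (p * y1 + r * y2) * ha' + y1 * hp + y2 * hr)
      (by simp [finrank_plane])
    exact Or.inr ⟨(q ^ 2 + 1) * (q + 1), mul_comm _ _,
      wit_fixed hab E hE ((oddp 2 two_ne_zero).mul o1p) (m1.prod_mul p0 cp) hu0⟩
  · obtain ⟨E, hE⟩ := exists_layout hab ((((hyp F).prod (formMinus F 0 a b)).prod (hyp F)).prod (hyp F))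
      (fun v => (((coord v 0, planeC v), coord v 1), coord v 2))
      (fun v w => by simp [coord_add, planeC_add]) (fun c v => by simp [coord_smul, planeC_smul])
      (fun v => by rw [form_coord]; simp only [QuadraticMap.prod_apply]; ring)
      (by simp [finrank_plane])
    exact Or.inr ⟨(q ^ 2 + 1) * (q - 1), mul_comm _ _,
      wit_fixed hab E hE ((oddp 2 two_ne_zero).mul o1m) (m1.prod_mul hh cm) hv0⟩
  · obtain ⟨E, hE⟩ := exists_layout hab (((hyp F).prod (formMinus F 0 a b)).prod ((hyp F).prod (hyp F)))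
      (fun v => ((coord v 0, planeC v), (coord v 1, coord v 2)))
      (fun v w => by simp [coord_add, planeC_add]) (fun c v => by simp [coord_smul, planeC_smul])
      (fun v => by rw [form_coord]; simp only [QuadraticMap.prod_apply]; ring)
      (by simp [finrank_plane])
    obtain ⟨h, hh4, -, -⟩ := exists_four_plus (F := F)
    have hord : orderOf (h * h) = 2 := by
      rw [← pow_two, orderOf_pow_of_dvd two_ne_zero (hh4 ▸ by norm_num), hh4]
    obtain ⟨v, hv⟩ : ∃ v, ((h * h : O ((hyp F).prod (hyp F))) : ((F × F) × (F × F)) ≃ₗ[F] ((F × F) × (F × F))) v ≠ v := by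
      by_contra hc
      push Not at hc
      rw [show h * h = 1 from O.ext_app hc, orderOf_one] at hord
      norm_num at hord
    refine Or.inr ⟨(q ^ 2 + 1) * 2, by ring, wit_of_sum hab E hE (oddp 2 two_ne_zero) m1 (h * h) hord
      (Nat.coprime_two_right.2 (oddp 2 two_ne_zero)) (hD_square hab E hE h) (v := v) ?_⟩
    simp only [Finset.sum_range_succ, Finset.sum_range_zero, zero_add, pow_zero, pow_one,
      Subgroup.coe_one, one_app]
    intro e
    exact hv (by rw [← add_right_inj v, e, add_self_eq_zero' (two_eq_zero' (F := F))])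
  · obtain ⟨E, hE⟩ := exists_layout hab (((hyp F).prod (hyp F)).prod ((hyp F).prod (formMinus F 0 a b)))
      (fun v => ((coord v 0, coord v 1), (coord v 2, planeC v)))
      (fun v w => by simp [coord_add, planeC_add]) (fun c v => by simp [coord_smul, planeC_smul])
      (fun v => by rw [form_coord]; simp only [QuadraticMap.prod_apply]; ring)
      (by simp [finrank_plane])
    obtain ⟨h, hh4, -, -⟩ := exists_four hab
    have hord : orderOf (h * h) = 2 := by
      rw [← pow_two, orderOf_pow_of_dvd two_ne_zero (hh4 ▸ by norm_num), hh4]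
    obtain ⟨v, hv⟩ : ∃ v, ((h * h : O ((hyp F).prod (formMinus F 0 a b))) :
        ((F × F) × W0) ≃ₗ[F] ((F × F) × W0)) v ≠ v := by
      by_contra hc
      push Not at hc
      rw [show h * h = 1 from O.ext_app hc, orderOf_one] at hord
      norm_num at hord
    refine Or.inr ⟨(q ^ 2 - 1) * 2, by ring, wit_of_sum hab E hE (oddm 2 two_ne_zero) p2 (h * h) hord
      (Nat.coprime_two_right.2 (oddm 2 two_ne_zero)) (hD_square hab E hE h) (v := v) ?_⟩
    simp only [Finset.sum_range_succ, Finset.sum_range_zero, zero_add, pow_zero, pow_one,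
      Subgroup.coe_one, one_app]
    intro e
    exact hv (by rw [← add_right_inj v, e, add_self_eq_zero' (two_eq_zero' (F := F))])
  · obtain ⟨E, hE⟩ := exists_layout hab ((formMinus F 0 a b).prod (((hyp F).prod (hyp F)).prod (hyp F)))
      (fun v => (planeC v, ((coord v 0, coord v 1), coord v 2)))
      (fun v w => by simp [coord_add, planeC_add]) (fun c v => by simp [coord_smul, planeC_smul])
      (fun v => by rw [form_coord]; simp only [QuadraticMap.prod_apply]; ring)
      (by simp [finrank_plane])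
    obtain ⟨h, hh4, w, hw⟩ := exists_four_plus (F := F)
    exact Or.inr ⟨(q + 1) * 4, by ring, eight hab E hE o1p p0 h hh4 hw⟩
  · obtain ⟨E, hE⟩ := exists_layout hab ((hyp F).prod (((hyp F).prod (formMinus F 0 a b)).prod (hyp F)))
      (fun v => (coord v 0, ((coord v 1, planeC v), coord v 2)))
      (fun v w => by simp [coord_add, planeC_add]) (fun c v => by simp [coord_smul, planeC_smul])
      (fun v => by rw [form_coord]; simp only [QuadraticMap.prod_apply]; ring)
      (by simp [finrank_plane])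
    obtain ⟨h, hh4, w, hw⟩ := exists_four hab
    exact Or.inr ⟨(q - 1) * 4, by ring, eight hab E hE o1m hh h hh4 hw⟩
where
  /-- An order four element with trivial Dickson invariant, using the swap of a pair if needed. -/
  eight {V₁ W : Type _} [AddCommGroup V₁] [Module F V₁] [Finite V₁] [AddCommGroup W] [Module F W] [Finite W]
      {Q₁ : QuadraticForm F V₁} {R : QuadraticForm F W}
      (hab : ∀ z₁ z₂ : F, z₁ ^ 2 + a * z₁ * z₂ + b * z₂ ^ 2 = 0 → z₁ = 0 ∧ z₂ = 0)
      (E : V8 ≃ₗ[F] V₁ × (W × (F × F)))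
      (hE : ∀ x, (Q₁.prod (R.prod (hyp F))) (E x) = formMinus F 3 a b x) {m : ℕ} (hm : Odd m)
      (hs : Real Q₁ m) (h : O R) (hh4 : orderOf h = 4) {w : W}
      (hw : ∑ i ∈ Finset.range 4, ((h ^ i : O R) : W ≃ₗ[F] W) w ≠ 0) : Wit a b (m * 4) := by
    have h2 : (2 : F) = 0 := two_eq_zero'
    let sw : O (hyp F) := ⟨LinearEquiv.prodComm F F F, fun v => mul_comm _ _⟩
    set Φ := (congrO E hE).symm.toMonoidHom.comp (prodO Q₁ (R.prod (hyp F))) with hΦ
    have hsw2 : sw ^ 2 = 1 := O.ext_app fun v => rfl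
    have hswap : dick hab (Φ (1, prodO R (hyp F) (1, sw))) = -1 := by
      have hu : formMinus F 3 a b (E.symm ((0 : V₁), ((0 : W), ((1 : F), (1 : F))))) ≠ 0 := by
        rw [← hE, E.apply_symm_apply]
        simp [QuadraticMap.prod_apply, hyp_apply]
      rw [show Φ (1, prodO R (hyp F) (1, sw)) =
        rO (formMinus F 3 a b) (E.symm ((0 : V₁), ((0 : W), ((1 : F), (1 : F))))) from O.ext_app fun x => ?_]
      · exact dickson_rO _ _ hu
      · obtain ⟨⟨p, r, c, d⟩, rfl⟩ := E.symm.surjective x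
        rw [rO_app]
        show E.symm ((prodO Q₁ (R.prod (hyp F)) (1, prodO R (hyp F) (1, sw)) :
          (V₁ × (W × (F × F))) ≃ₗ[F] (V₁ × (W × (F × F)))) (E (E.symm (p, r, c, d)))) = _
        rw [E.apply_symm_apply]
        simp only [prodO_app, QuadraticMap.polar, ← map_add, ← map_smul, ← map_sub, ← hE, E.apply_symm_apply,
          QuadraticMap.prod_apply, hyp_apply, Subgroup.coe_one, one_app, Prod.mk_add_mk, Prod.smul_mk,
          Prod.mk_sub_mk, smul_zero, sub_zero, zero_add, QuadraticMap.map_zero, smul_eq_mul]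
        congr 1
        refine Prod.ext rfl (Prod.ext rfl (Prod.ext ?_ ?_))
        · show d = _
          ring_nf
          linear_combination d * h2
        · show c = _
          ring_nf
          linear_combination c * h2
    have hord : ∀ x : O (hyp F), x ^ 2 = 1 → orderOf (prodO R (hyp F) (h, x)) = 4 := fun x hx => by
      rw [orderOf_injective _ prodO_injective, Prod.orderOf, hh4]
      exact Nat.dvd_antisymm (Nat.lcm_dvd dvd_rfl ((orderOf_dvd_of_pow_eq_one hx).trans (by norm_num)))
        (Nat.dvd_lcm_left _ _)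
    have hsum : ∀ x : O (hyp F), ∑ i ∈ Finset.range 4, ((prodO R (hyp F) (h, x) ^ i : O (R.prod (hyp F))) :
        (W × (F × F)) ≃ₗ[F] (W × (F × F))) (w, 0) ≠ 0 := fun x e => by
      refine hw ?_
      have := congrArg Prod.fst e
      simpa [← map_pow, prodO_app, Prod.fst_sum] using this
    have hcop : Nat.Coprime m 4 := (Nat.coprime_two_right.2 hm).pow_right 2
    rcases Int.units_eq_one_or (dick hab (Φ (1, prodO R (hyp F) (h, 1)))) with e | e
    · exact wit_of_sum hab E hE hm hs _ (hord 1 (one_pow 2)) hcop e (hsum 1)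
    · refine wit_of_sum hab E hE hm hs _ (hord sw hsw2) hcop ?_ (hsum sw)
      show dick hab (Φ (1, prodO R (hyp F) (h, sw))) = 1
      rw [show ((1 : O Q₁), prodO R (hyp F) (h, sw)) =
        (1, prodO R (hyp F) (h, 1)) * (1, prodO R (hyp F) (1, sw)) by
          rw [Prod.mk_mul_mk, ← map_mul, Prod.mk_mul_mk, one_mul, mul_one, one_mul], map_mul, map_mul, e, hswap]
      decide

/-! ### The semidirect product -/

/-- The Dickson kernel. -/
noncomputable def omega8 : Subgroup (O (formMinus F 3 a b)) := (dick hab).ker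

/-- The diagonal action on `k` copies of the space. -/
noncomputable def act (k : ℕ) : omega8 hab →* MulAut (Multiplicative (Fin k → V8)) where
  toFun g := AddEquiv.toMultiplicative
    (AddEquiv.piCongrRight fun _ : Fin k => (((g : O (formMinus F 3 a b)) : V8 ≃ₗ[F] V8)).toAddEquiv)
  map_one' := rfl
  map_mul' _ _ := rfl

/-- `V^k ⋊ Ω₈⁻`. -/
abbrev Ext (k : ℕ) : Type _ := Multiplicative (Fin k → V8) ⋊[act hab k] omega8 hab

theorem pow_left (k : ℕ) (x : Ext hab k) (n : ℕ) (j : Fin k) :
    Multiplicative.toAdd (x ^ n).left j = ∑ i ∈ Finset.range n,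
      ((((x.right : omega8 hab) : O (formMinus F 3 a b)) ^ i : O (formMinus F 3 a b)) : V8 ≃ₗ[F] V8)
        (Multiplicative.toAdd x.left j) ∧ (x ^ n).right = x.right ^ n := by
  induction n with
  | zero => exact ⟨by simp, rfl⟩
  | succ n ih =>
    refine ⟨?_, by rw [pow_succ, SemidirectProduct.mul_right, ih.2, pow_succ]⟩
    rw [pow_succ, SemidirectProduct.mul_left, Finset.sum_range_succ, toAdd_mul, Pi.add_apply, ih.1, ih.2]
    rfl

include hab in
/-- `V^k ⋊ Ω₈⁻(q)` has the element orders of `Sp₈(q)`. -/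
theorem spectrum_ext (k : ℕ) (hk : 1 ≤ k) :
    Set.range (orderOf : Ext hab k → ℕ) = Set.range (orderOf : Cfsg.PSp 4 F → ℕ) := by
  classical
  haveI : Finite (omega8 hab) := by
    haveI := finite_O' (formMinus F 3 a b)
    exact Subtype.finite
  haveI : Finite (Ext hab k) := Finite.of_equiv _ SemidirectProduct.equivProd.symm
  haveI : Finite (Matrix.symplecticGroup (Fin 4) F) := Subtype.finite
  have key : ∀ {G : Type _} [Group G] [Finite G] (g : G) (m : ℕ), m ∣ orderOf g → m ≠ 0 →
      ∃ g' : G, orderOf g' = m := fun g m hd hm => ⟨g ^ (orderOf g / m), by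
    rw [orderOf_pow_of_dvd (Nat.div_ne_zero_iff.2 ⟨hm, Nat.le_of_dvd (orderOf_pos g) hd⟩)
      (Nat.div_dvd_of_dvd hd), Nat.div_div_self hd (orderOf_pos g).ne']⟩
  -- bounds are attained in both groups
  have lowExt : ∀ N ∈ bounds (Nat.card F), ∃ x : Ext hab k, N ∣ orderOf x := by
    intro N hN
    rcases exists_witness hab hN with ⟨-, g, hg1, hg⟩ | ⟨n, rfl, g, hg1, hg, v, hv⟩
    · refine ⟨SemidirectProduct.inr (⟨g, hg1⟩ : omega8 hab), ?_⟩
      rw [orderOf_injective _ SemidirectProduct.inr_injective, ← Subgroup.orderOf_coe]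
      exact dvd_of_eq hg.symm
    set x : Ext hab k := ⟨Multiplicative.ofAdd fun _ => v, ⟨g, hg1⟩⟩
    refine ⟨x, ?_⟩
    have h1 : (x ^ orderOf x) = 1 := pow_orderOf_eq_one x
    obtain ⟨hl, hr⟩ := pow_left hab k x (orderOf x) ⟨0, hk⟩
    rw [h1] at hl hr
    have hgd : n ∣ orderOf x := by
      rw [← hg]
      refine orderOf_dvd_of_pow_eq_one ?_
      exact (congrArg Subtype.val hr).symm.trans rfl
    obtain ⟨r, hr'⟩ := hgd
    rw [hr'] at hl ⊢
    have hsum : ∑ i ∈ Finset.range (n * r), ((g ^ i : O (formMinus F 3 a b)) : V8 ≃ₗ[F] V8) v = 0 := hl.symm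
    rw [sum_periods g (hg ▸ pow_orderOf_eq_one g)] at hsum
    rcases Nat.even_or_odd r with ⟨s, hs⟩ | ⟨s, hs⟩
    · exact ⟨s, by rw [hs]; ring⟩
    · rw [hs, add_nsmul, one_nsmul, mul_nsmul', two_nsmul, add_self_eq_zero' (two_eq_zero' (F := F)),
        zero_add] at hsum
      exact absurd hsum hv
  have lowSp : ∀ N ∈ bounds (Nat.card F), ∃ x : Cfsg.PSp 4 F, N ∣ orderOf x := by
    intro N hN
    obtain ⟨h, hh⟩ := real_bounds hab hN
    obtain ⟨f, hf⟩ := exists_embedding hab
    exact ⟨QuotientGroup.mk (f h), by rwa [orderOf_mk_PSp (by norm_num), orderOf_injective f hf]⟩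
  have upExt : ∀ x : Ext hab k, ∃ N ∈ bounds (Nat.card F), orderOf x ∣ N := by
    intro x
    obtain ⟨N, hN, hgN, hsum⟩ := exists_bound_kernel hab (x.right : O (formMinus F 3 a b)) x.right.2
    refine ⟨N, hN, orderOf_dvd_of_pow_eq_one (SemidirectProduct.ext ?_ ?_)⟩
    · refine Multiplicative.toAdd.injective (funext fun j => ?_)
      rw [(pow_left hab k x N j).1, hsum]
      rfl
    · rw [(pow_left hab k x N ⟨0, hk⟩).2]
      exact Subtype.ext (by rw [SubgroupClass.coe_pow, hgN]; rfl)
  apply Set.Subset.antisymm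
  · rintro m ⟨x, rfl⟩
    obtain ⟨N, hN, hd⟩ := upExt x
    obtain ⟨y, hy⟩ := lowSp N hN
    exact key y _ (hd.trans hy) (orderOf_pos x).ne'
  · rintro m ⟨y, rfl⟩
    obtain ⟨g, rfl⟩ := QuotientGroup.mk_surjective y
    rw [orderOf_mk_PSp (by norm_num)]
    obtain ⟨N, hN, hd⟩ := exists_symplectic_bound g
    obtain ⟨x, hx⟩ := lowExt N hN
    exact key x _ (hd.trans hx) (orderOf_pos g).ne'

end Cfsg.Agent.H69.SpecEight
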